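import Groth.Agent.Lib.PolLaw.Flat
import Mathlib.GroupTheory.Coset.Basic
import Mathlib.RingTheory.Localization.Away.Basic
import Mathlib.RingTheory.Flat.Basic
import Mathlib.Tactic.Group

/-!
Coset traces, invariant numerators, and symmetric tensors of a flat module in terms of generators.
-/

universe u

open TensorProduct

namespace GrothLib.SymCmp4

section Trace

variable {G : Type*} [Group G] (H : Subgroup G)

/-- A choice of representatives of right cosets, the trivial coset being represented by `1`. -/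
theorem exists_reps : ∃ r : G → G, r 1 = 1 ∧ (∀ τ, τ * (r τ)⁻¹ ∈ H) ∧
    ∀ σ ∈ H, ∀ τ, r (σ * τ) = r τ := by
  classical
  let mk : G → Quotient (QuotientGroup.rightRel H) := fun τ => Quotient.mk'' τ
  refine ⟨fun τ => if τ ∈ H then 1 else (mk τ).out, if_pos H.one_mem, fun τ => ?_, fun σ hσ τ => ?_⟩
  · dsimp only
    split_ifs with h
    · simpa using h
    · have := Quotient.exact (Quotient.out_eq (mk τ))
      exact QuotientGroup.rightRel_apply.mp this
  · dsimp only
    have e : mk (σ * τ) = mk τ := Quotient.sound (QuotientGroup.rightRel_apply.mpr (by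
      rw [mul_inv_rev, mul_inv_cancel_left]; exact H.inv_mem hσ))
    rw [H.mul_mem_cancel_left hσ, e]

variable [Fintype G] [DecidableEq G] {r : G → G}

theorem eq_one_of_mem_image (h1 : r 1 = 1) (hr : ∀ σ ∈ H, ∀ τ, r (σ * τ) = r τ)
    (hm : ∀ τ, τ * (r τ)⁻¹ ∈ H) {ρ : G} (hρ : ρ ∈ Finset.univ.image r) (hH : ρ ∈ H) : ρ = 1 := by
  obtain ⟨τ, -, rfl⟩ := Finset.mem_image.mp hρ
  have : τ ∈ H := by
    have := H.mul_mem (hm τ) hH
    rwa [inv_mul_cancel_right] at this
  rw [← mul_one τ, hr τ this, h1]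

/-- The sum over coset representatives of an element invariant under the subgroup is invariant. -/
theorem trace_inv (hm : ∀ τ, τ * (r τ)⁻¹ ∈ H) (hr : ∀ σ ∈ H, ∀ τ, r (σ * τ) = r τ)
    {M : Type*} [AddCommMonoid M] (act : G → M →+ M)
    (hmul : ∀ σ τ x, act (σ * τ) x = act τ (act σ x)) {x : M} (hx : ∀ σ ∈ H, act σ x = x) (g : G) :
    act g (∑ ρ ∈ Finset.univ.image r, act ρ x) = ∑ ρ ∈ Finset.univ.image r, act ρ x := by
  have hrr : ∀ τ, r (r τ) = r τ := fun τ => by
    conv_rhs => rw [show τ = (τ * (r τ)⁻¹) * r τ by group, hr _ (hm τ)]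
  have key : ∀ τ, act (r τ) x = act τ x := fun τ => by
    conv_rhs => rw [show τ = (τ * (r τ)⁻¹) * r τ by group, hmul, hx _ (hm τ)]
  have back : ∀ τ a, r (r τ * a) = r (τ * a) := fun τ a => by
    conv_rhs => rw [show τ * a = (τ * (r τ)⁻¹) * (r τ * a) by group, hr _ (hm τ)]
  rw [map_sum]
  refine Finset.sum_bij' (fun ρ _ => r (ρ * g)) (fun ρ _ => r (ρ * g⁻¹))
    (fun ρ _ => Finset.mem_image_of_mem r (Finset.mem_univ _))
    (fun ρ _ => Finset.mem_image_of_mem r (Finset.mem_univ _)) ?_ ?_ ?_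
  · intro ρ hρ
    obtain ⟨τ, -, rfl⟩ := Finset.mem_image.mp hρ
    rw [back, mul_inv_cancel_right, hrr]
  · intro ρ hρ
    obtain ⟨τ, -, rfl⟩ := Finset.mem_image.mp hρ
    rw [back, inv_mul_cancel_right, hrr]
  · intro ρ _
    rw [key, hmul]

end Trace

section Away

variable {A A' : Type*} [CommRing A] [CommRing A'] [Algebra A A'] (k : A) [IsLocalization.Away k A']

theorem exists_pow_mul_eq {x y : A} (h : algebraMap A A' x = algebraMap A A' y) :
    ∃ N : ℕ, k ^ N * x = k ^ N * y := by
  obtain ⟨⟨c, N, rfl⟩, hc⟩ := (IsLocalization.eq_iff_exists (Submonoid.powers k) A').mp h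
  exact ⟨N, hc⟩

/-- An invariant element of a localisation at an invariant element has an invariant numerator. -/
theorem exists_invariant_num {ι : Type*} [Finite ι] (a : ι → A →+* A) (a' : ι → A' →+* A')
    (hc : ∀ i x, algebraMap A A' (a i x) = a' i (algebraMap A A' x)) (hk : ∀ i, a i k = k)
    {e : A'} (he : ∀ i, a' i e = e) :
    ∃ (N : ℕ) (x : A), (∀ i, a i x = x) ∧ algebraMap A A' x = e * algebraMap A A' k ^ N := by
  cases nonempty_fintype ι
  obtain ⟨⟨x₀, _, n, rfl⟩, hx₀⟩ := IsLocalization.surj (Submonoid.powers k) e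
  have hi : ∀ i, ∃ M : ℕ, k ^ M * a i x₀ = k ^ M * x₀ := fun i => exists_pow_mul_eq k (A' := A') (by
    simp only at hx₀
    rw [hc, ← hx₀, map_mul, he, ← hc, map_pow, hk])
  choose M hM using hi
  refine ⟨n + ∑ i, M i, k ^ (∑ i, M i) * x₀, fun i => ?_, ?_⟩
  · rw [map_mul, map_pow, hk]
    obtain ⟨m, hm⟩ := Nat.exists_eq_add_of_le (Finset.single_le_sum (fun j _ => Nat.zero_le (M j))
      (Finset.mem_univ i))
    rw [hm, add_comm, pow_add, mul_assoc, hM, mul_assoc]
  · simp only at hx₀
    rw [map_mul, ← hx₀, map_pow, map_pow, pow_add]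
    ring

end Away

section Flat

open PolLaw

variable {B' : Type u} [CommRing B'] {N : Type u} [AddCommGroup N] [Module B' N] {M : Type u}
  {d : ℕ}

/-- Symmetric tensors of a flat module are combinations of orbit sums of families taken from any
generating set. -/
theorem mem_span_orbit_of_span [Module.Flat B' N] (ψ : M → N)
    (hψ : Submodule.span B' (Set.range ψ) = ⊤) {z : ⨂[B'] _ : Fin d, N}
    (hz : z ∈ symTensor B' N d) :
    z ∈ Submodule.span B' {y | ∃ (n : ℕ) (r : Fin n → M) (ν : Fin n →₀ ℕ),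
      y = orbit B' (ψ ∘ r) ν} := by
  classical
  obtain ⟨n, y, t₀, ht₀, rfl⟩ := exists_symm_lift hz
  let e := fun i : Fin n => y (Finsupp.single i 1)
  have hi : ∀ i, e i ∈ Submodule.span B' (Set.range ψ) := fun i => hψ ▸ Submodule.mem_top
  choose l hl using fun i => Finsupp.mem_span_range_iff_exists_finsupp.mp (hi i)
  let J : Finset M := Finset.univ.biUnion fun i => (l i).support
  let φ : (J →₀ B') →ₗ[B'] N := Finsupp.linearCombination B' fun m : J => ψ m
  let a : (Fin n →₀ B') →ₗ[B'] (J →₀ B') :=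
    Finsupp.linearCombination B' fun i => (l i).subtypeDomain (· ∈ J)
  have hya : y = φ ∘ₗ a := Finsupp.lhom_ext fun i c => by
    rw [← mul_one c, ← smul_eq_mul, ← Finsupp.smul_single, map_smul, map_smul]
    congr 1
    simp only [LinearMap.comp_apply, a, φ, Finsupp.linearCombination_single, one_smul]
    rw [Finsupp.linearCombination_apply]
    show e i = _
    rw [← hl i]
    exact (Finsupp.sum_subtypeDomain_index (p := (· ∈ J)) (h := fun m c => c • ψ m) fun m hm =>
      Finset.mem_biUnion.mpr ⟨i, Finset.mem_univ i, hm⟩).symm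
  let b : Module.Basis J B' (J →₀ B') := Finsupp.basisSingleOne
  have hs := mem_span_orbit_basis b (tmap₁_mem_symTensor a ht₀)
  rw [hya, tmap₁_comp]
  clear hz ht₀ hya
  generalize tmap₁ a t₀ = s at hs ⊢
  induction hs using Submodule.span_induction with
  | mem s hs =>
    obtain ⟨k, i, μ, rfl⟩ := hs
    rw [tmap₁_orbit]
    refine Submodule.subset_span ⟨k, fun j => (i j : M), μ, ?_⟩
    congr 1
    funext j
    simp [φ, b]
  | zero => simp
  | add a b _ _ ha hb => rw [map_add]; exact add_mem ha hb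
  | smul r a _ ha => rw [map_smul]; exact Submodule.smul_mem _ _ ha

end Flat

end GrothLib.SymCmp4
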