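import Groth.Agent.Lib.SymCmp4.Chart
import Groth.Agent.Lib.SymCmp4.Algebra

/-!
Fibre powers over a change of base: the comparison map, the action on sections, spans of products.
-/

universe u

open CategoryTheory CategoryTheory.Limits AlgebraicGeometry TopologicalSpace TensorProduct

set_option maxHeartbeats 400000

namespace GrothLib.SymCmp4

open SymAF26

/-- The additive span of the products `β b * α a` with `a` satisfying `P`. -/
def mulSpan {A B T : Type*} [CommRing A] [CommRing B] [CommRing T] (α : A →+* T) (β : B →+* T)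
    (P : A → Prop) : AddSubgroup T :=
  AddSubgroup.closure {t | ∃ a b, P a ∧ t = β b * α a}

theorem mul_mem_mulSpan {A B T : Type*} [CommRing A] [CommRing B] [CommRing T] {α : A →+* T}
    {β : B →+* T} {P : A → Prop} (hP : ∀ a a', P a → P a' → P (a * a')) {a : A} (ha : P a) {t : T}
    (ht : t ∈ mulSpan α β P) : α a * t ∈ mulSpan α β P := by
  refine (AddSubgroup.closure_le (K := (mulSpan α β P).comap (AddMonoidHom.mulLeft (α a)))).mpr ?_ ht
  rintro _ ⟨a', b, ha', rfl⟩
  exact AddSubgroup.subset_closure ⟨a * a', b, hP a a' ha ha', by simp [map_mul]; ring⟩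

/-- A map of spans. -/
theorem map_mem_mulSpan {A B T A₁ B₁ T₁ : Type*} [CommRing A] [CommRing B] [CommRing T] [CommRing A₁]
    [CommRing B₁] [CommRing T₁] {α : A →+* T} {β : B →+* T} {P : A → Prop} {α₁ : A₁ →+* T₁}
    {β₁ : B₁ →+* T₁} {P₁ : A₁ → Prop} (φ : T →+ T₁)
    (h : ∀ a b, P a → φ (β b * α a) ∈ mulSpan α₁ β₁ P₁) {t : T} (ht : t ∈ mulSpan α β P) :
    φ t ∈ mulSpan α₁ β₁ P₁ := by
  refine (AddSubgroup.closure_le (K := (mulSpan α₁ β₁ P₁).comap φ)).mpr ?_ ht
  rintro _ ⟨a, b, ha, rfl⟩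
  exact h a b ha

theorem mem_mulSpan_of_isPushout {A B C D : CommRingCat.{u}} {f : A ⟶ B} {g : A ⟶ C} {i : B ⟶ D}
    {j : C ⟶ D} (h : IsPushout f g i j) (x : D) :
    x ∈ mulSpan i.hom j.hom (fun _ => True) := by
  letI := f.hom.toAlgebra
  letI := g.hom.toAlgebra
  letI := i.hom.toAlgebra
  letI := j.hom.toAlgebra
  letI := (f ≫ i).hom.toAlgebra
  haveI : IsScalarTower A B D := .of_algebraMap_eq' rfl
  haveI : IsScalarTower A C D := .of_algebraMap_eq' (congrArg CommRingCat.Hom.hom h.w)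
  haveI : Algebra.IsPushout A B C D := CommRingCat.isPushout_iff_isPushout.1 h
  obtain ⟨z, rfl⟩ := (Algebra.IsPushout.equiv A B C D).surjective x
  induction z using TensorProduct.induction_on with
  | zero => rw [map_zero]; exact zero_mem _
  | add z w hz hw => rw [map_add]; exact add_mem hz hw
  | tmul b c =>
    rw [Algebra.IsPushout.equiv_tmul]
    exact AddSubgroup.subset_closure ⟨b, c, trivial, mul_comm _ _⟩

section Pact

variable {X S : Scheme.{u}} (f : X ⟶ S) (d : ℕ)

/-- Pullback of sections over a stable open along a permutation of the factors. -/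
noncomputable def pact (W : (SymProd.fibPow f d).Opens) (σ : Equiv.Perm (Fin d))
    (hσ : W ≤ (SymProd.permHom f d σ) ⁻¹ᵁ W) :
    Γ(SymProd.fibPow f d, W) →+* Γ(SymProd.fibPow f d, W) :=
  ((SymProd.permHom f d σ).appLE W W hσ).hom

variable {f d}

theorem pact_one {W : (SymProd.fibPow f d).Opens} (h : W ≤ (SymProd.permHom f d 1) ⁻¹ᵁ W) (x) :
    pact f d W 1 h x = x := by
  rw [pact, appLE_congr_app (SymProd.permHom_one f d)]
  rw [Scheme.Hom.appLE, Scheme.Hom.id_app]
  exact DFunLike.congr_fun (congrArg CommRingCat.Hom.hom ((SymProd.fibPow f d).presheaf.map_id _)) x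

theorem pact_mul {W : (SymProd.fibPow f d).Opens} {σ τ : Equiv.Perm (Fin d)}
    (hσ : W ≤ (SymProd.permHom f d σ) ⁻¹ᵁ W) (hτ : W ≤ (SymProd.permHom f d τ) ⁻¹ᵁ W)
    (h : W ≤ (SymProd.permHom f d (σ * τ)) ⁻¹ᵁ W) (x) :
    pact f d W (σ * τ) h x = pact f d W τ hτ (pact f d W σ hσ x) := by
  rw [pact, pact, pact, appLE_comp_apply]
  exact appLE_congr_app (SymProd.permHom_mul f d σ τ) _ _ _ _

theorem res_pact {W E : (SymProd.fibPow f d).Opens} (i : E ≤ W) {σ : Equiv.Perm (Fin d)}
    (hW : W ≤ (SymProd.permHom f d σ) ⁻¹ᵁ W) (hE : E ≤ (SymProd.permHom f d σ) ⁻¹ᵁ E) (x) :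
    ((SymProd.fibPow f d).presheaf.map (homOfLE i).op).hom (pact f d W σ hW x) =
      pact f d E σ hE (((SymProd.fibPow f d).presheaf.map (homOfLE i).op).hom x) := by
  rw [pact, pact, ← CommRingCat.comp_apply, ← CommRingCat.comp_apply, Scheme.Hom.appLE_map,
    Scheme.Hom.map_appLE]

theorem pact_base {W : (SymProd.fibPow f d).Opens} {V : S.Opens}
    (e : W ≤ (WidePullback.base (fun _ : Fin d => f)) ⁻¹ᵁ V) {σ : Equiv.Perm (Fin d)}
    (hσ : W ≤ (SymProd.permHom f d σ) ⁻¹ᵁ W) (b : Γ(S, V)) :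
    pact f d W σ hσ (((WidePullback.base (fun _ : Fin d => f)).appLE V W e).hom b) =
      ((WidePullback.base (fun _ : Fin d => f)).appLE V W e).hom b := by
  rw [pact, appLE_comp_apply]
  exact appLE_congr_app (SymProd.permHom_base f d σ) _ _ _ _

theorem mem_basicOpen_pact_iff {W : (SymProd.fibPow f d).Opens} {σ : Equiv.Perm (Fin d)}
    (hσ : W ≤ (SymProd.permHom f d σ) ⁻¹ᵁ W) (s : Γ(SymProd.fibPow f d, W))
    (x : ↥(SymProd.fibPow f d)) :
    x ∈ (SymProd.fibPow f d).basicOpen (pact f d W σ hσ s) ↔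
      x ∈ W ∧ (SymProd.permHom f d σ).base x ∈ (SymProd.fibPow f d).basicOpen s := by
  rw [pact, Scheme.basicOpen_appLE]
  rfl

/-- A point and its translate by a permutation are never strict specialisations of one another. -/
theorem perm_eq_of_specializes {σ : Equiv.Perm (Fin d)} {x : ↥(SymProd.fibPow f d)}
    (h : (SymProd.permHom f d σ).base x ⤳ x) : (SymProd.permHom f d σ).base x = x := by
  let φ : ℕ → ↥(SymProd.fibPow f d) := fun n => (SymProd.permHom f d (σ ^ n)).base x
  have h0 : φ 0 = x := by simp only [φ, pow_zero, SymProd.permHom_one]; rfl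
  have hs : ∀ n, φ (n + 1) = (SymProd.permHom f d σ).base (φ n) := fun n => by
    simp only [φ, pow_succ', SymProd.permHom_mul]; rfl
  have hsp : ∀ n, φ (n + 1) ⤳ φ 1 := fun n => by
    induction n with
    | zero => exact specializes_rfl
    | succ n ih =>
      refine Specializes.trans ?_ ih
      clear ih
      induction n with
      | zero => rw [hs 1, hs 0, h0]; exact h.map (Scheme.Hom.continuous _)
      | succ n ih =>
        have := ih.map (Scheme.Hom.continuous (SymProd.permHom f d σ))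
        rwa [← hs, ← hs] at this
  have hord : φ (orderOf σ) = x := by simp only [φ, pow_orderOf_eq_one, SymProd.permHom_one]; rfl
  obtain ⟨n, hn⟩ := Nat.exists_eq_add_of_le' (orderOf_pos σ)
  have := hsp n
  rw [← hn, hord, hs 0, h0] at this
  exact (h.antisymm this).eq

end Pact

section PowMap

variable {X S S' Z : Scheme.{u}} {f : X ⟶ S} {h : Z ⟶ S'} {c : Z ⟶ X} {gS : S' ⟶ S}

/-- The map of fibre powers over a change of base. -/
noncomputable def powMap (w : c ≫ f = h ≫ gS) (d : ℕ) :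
    SymProd.fibPow h d ⟶ SymProd.fibPow f d :=
  WidePullback.lift (WidePullback.base (fun _ : Fin d => h) ≫ gS)
    (fun i => WidePullback.π (fun _ : Fin d => h) i ≫ c)
    (fun i => by rw [Category.assoc, w, WidePullback.π_arrow_assoc])

variable (w : c ≫ f = h ≫ gS) {d : ℕ}

@[reassoc (attr := simp)]
theorem powMap_π (i : Fin d) : powMap w d ≫ WidePullback.π (fun _ : Fin d => f) i =
    WidePullback.π (fun _ : Fin d => h) i ≫ c := WidePullback.lift_π _ _ _ _ i

@[reassoc (attr := simp)]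
theorem powMap_base : powMap w d ≫ WidePullback.base (fun _ : Fin d => f) =
    WidePullback.base (fun _ : Fin d => h) ≫ gS := WidePullback.lift_base _ _ _ _

theorem perm_powMap (σ : Equiv.Perm (Fin d)) :
    SymProd.permHom h d σ ≫ powMap w d = powMap w d ≫ SymProd.permHom f d σ := by
  apply WidePullback.hom_ext
  · intro i
    rw [Category.assoc, powMap_π, Category.assoc, SymProd.permHom_π, powMap_π,
      SymProd.permHom_π_assoc]
  · rw [Category.assoc, powMap_base, Category.assoc, SymProd.permHom_base, powMap_base,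
      SymProd.permHom_base_assoc]

theorem pact_powMap {W : (SymProd.fibPow f d).Opens} {W' : (SymProd.fibPow h d).Opens}
    (e : W' ≤ (powMap w d) ⁻¹ᵁ W) {σ : Equiv.Perm (Fin d)}
    (hσ : W ≤ (SymProd.permHom f d σ) ⁻¹ᵁ W) (hσ' : W' ≤ (SymProd.permHom h d σ) ⁻¹ᵁ W')
    (a : Γ(SymProd.fibPow f d, W)) :
    pact h d W' σ hσ' (((powMap w d).appLE W W' e).hom a) =
      ((powMap w d).appLE W W' e).hom (pact f d W σ hσ a) := by
  rw [pact, pact, appLE_comp_apply, appLE_comp_apply]
  exact appLE_congr_app (perm_powMap w σ) _ _ _ _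

variable [IsClosedImmersion (pullback.lift c h w)]
include w

/-- The part of `Z` over an affine of `X` and an affine of the new base is affine, with ring spanned
by products of pulled back sections. -/
theorem gen_affine {U : X.Opens} {V : S.Opens} {V' : S'.Opens} (hU : IsAffineOpen U)
    (hV : IsAffineOpen V) (hV' : IsAffineOpen V') (hUV : U ≤ f ⁻¹ᵁ V) (hV'V : V' ≤ gS ⁻¹ᵁ V) :
    IsAffineOpen (c ⁻¹ᵁ U ⊓ h ⁻¹ᵁ V') ∧ ∀ x : Γ(Z, c ⁻¹ᵁ U ⊓ h ⁻¹ᵁ V'),
      x ∈ mulSpan (c.appLE U _ inf_le_left).hom (h.appLE V' _ inf_le_right).hom (fun _ => True) := by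
  let j := pullback.lift c h w
  let Ω := pullback.fst f gS ⁻¹ᵁ U ⊓ pullback.snd f gS ⁻¹ᵁ V'
  haveI : IsAffine U.toScheme := hU
  haveI : IsAffine V.toScheme := hV
  haveI : IsAffine V'.toScheme := hV'
  have H := IsPullback.of_hasPullback f gS
  have hΩ : IsAffineOpen Ω :=
    .of_isIso (Scheme.Hom.isPullback_resLE H hV'V hUV (UY := Ω) rfl).isoPullback.hom
  have e : j ⁻¹ᵁ Ω = c ⁻¹ᵁ U ⊓ h ⁻¹ᵁ V' := by
    simp only [Ω, Scheme.Hom.preimage_inf, ← Scheme.Hom.comp_preimage, j, pullback.lift_fst,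
      pullback.lift_snd]
  have hW := hΩ.preimage j
  rw [e] at hW
  refine ⟨hW, fun x => ?_⟩
  have hs : Function.Surjective (j.appLE Ω _ e.ge).hom := by
    have h1 := Scheme.Hom.app_surjective j Ω hΩ
    have : IsIso (Z.presheaf.map (homOfLE e.ge).op) := by
      rw [show (homOfLE e.ge) = eqToHom e.symm from Subsingleton.elim _ _]; infer_instance
    exact (ConcreteCategory.bijective_of_isIso (Z.presheaf.map (homOfLE e.ge).op)).2.comp h1
  obtain ⟨y, rfl⟩ := hs x
  have hpo := (isIso_pushoutSection_iff H hV'V hUV (UY := Ω) rfl).1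
    (isIso_pushoutSection_of_isAffineOpen H hV'V hUV rfl hV hV' hU)
  refine map_mem_mulSpan (j.appLE Ω _ e.ge).hom.toAddMonoidHom (fun a b _ => ?_)
    (mem_mulSpan_of_isPushout hpo y)
  refine AddSubgroup.subset_closure ⟨a, b, trivial, ?_⟩
  simp only [RingHom.toAddMonoidHom_eq_coe, AddMonoidHom.coe_coe, map_mul, appLE_comp_apply]
  congr 1 <;> apply appLE_congr_app <;>
    first | exact pullback.lift_fst _ _ _ | exact pullback.lift_snd _ _ _

end PowMap

end GrothLib.SymCmp4
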