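import Groth.Agent.Lib.SymAF26.ChartRing

/-!
Affine charts of fibre powers attached to a family of affine opens, without (AF).
-/

universe u

open CategoryTheory CategoryTheory.Limits AlgebraicGeometry TopologicalSpace TensorProduct

set_option maxHeartbeats 400000

namespace GrothLib.SymCmp4

open SymAF26

variable {X S : Scheme.{u}} (f : X ⟶ S) {d : ℕ}

/-- The points over `V` whose `k`-th projection lies in `U k`. -/
noncomputable def chartFam (U : Fin d → X.Opens) (V : S.Opens) : (SymProd.fibPow f d).Opens :=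
  ⟨(WidePullback.base (fun _ : Fin d => f)).base ⁻¹' (V : Set S) ∩
      ⋂ i : Fin d, (WidePullback.π (fun _ : Fin d => f) i).base ⁻¹' (U i : Set X),
    (V.isOpen.preimage (WidePullback.base (fun _ : Fin d => f)).continuous).inter
      (isOpen_iInter_of_finite fun i => (U i).isOpen.preimage (Scheme.Hom.continuous _))⟩

theorem mem_chartFam {U : Fin d → X.Opens} {V : S.Opens} (x : ↥(SymProd.fibPow f d)) :
    x ∈ chartFam f U V ↔ (WidePullback.base (fun _ : Fin d => f)).base x ∈ V ∧
      ∀ i, (WidePullback.π (fun _ : Fin d => f) i).base x ∈ U i :=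
  and_congr_right' Set.mem_iInter

theorem chartFam_le_base (U : Fin d → X.Opens) (V : S.Opens) :
    chartFam f U V ≤ (WidePullback.base (fun _ : Fin d => f)) ⁻¹ᵁ V :=
  fun _ hx => ((mem_chartFam f _).mp hx).1

theorem chartFam_le_π (U : Fin d → X.Opens) (V : S.Opens) (i : Fin d) :
    chartFam f U V ≤ (WidePullback.π (fun _ : Fin d => f) i) ⁻¹ᵁ U i :=
  fun _ hx => ((mem_chartFam f _).mp hx).2 i

/-- The chart is preserved by permutations preserving the family. -/
theorem preimage_chartFam (U : Fin d → X.Opens) (V : S.Opens) (σ : Equiv.Perm (Fin d))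
    (hσ : ∀ i, U (σ i) = U i) :
    (SymProd.permHom f d σ) ⁻¹ᵁ chartFam f U V = chartFam f U V := by
  refine Opens.ext (Set.ext fun x => ?_)
  show (SymProd.permHom f d σ).base x ∈ chartFam f U V ↔ x ∈ chartFam f U V
  simp only [mem_chartFam, base_perm, π_perm]
  refine and_congr_right' ⟨fun h i => ?_, fun h i => ?_⟩
  · have := h (σ i); rwa [Equiv.symm_apply_apply, hσ] at this
  · have := h (σ.symm i); rwa [← hσ (σ.symm i), Equiv.apply_symm_apply] at this

/-- The chart of a family of affine opens is affine. -/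
theorem isAffineOpen_chartFam {U : Fin d → X.Opens} {V : S.Opens} (hU : ∀ i, IsAffineOpen (U i))
    (hV : IsAffineOpen V) (hUV : ∀ i, U i ≤ f ⁻¹ᵁ V) : IsAffineOpen (chartFam f U V) := by
  let fV : ∀ i, (U i).toScheme ⟶ V.toScheme := fun i => f.resLE V (U i) (hUV i)
  have hfV : ∀ i, fV i ≫ V.ι = (U i).ι ≫ f := fun i => f.resLE_comp_ι (hUV i)
  let W := chartFam f U V
  haveI : ∀ i, IsAffine (U i).toScheme := hU
  haveI : IsAffine V.toScheme := hV
  let P := widePullback V.toScheme (fun i : Fin d => (U i).toScheme) fV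
  haveI : IsAffine P := by
    haveI : ∀ j, IsAffine ((WidePullbackShape.wideCospan V.toScheme (fun i : Fin d => (U i).toScheme)
        fV).obj j) := fun j => by
      cases j with
      | none => exact hV
      | some i => exact hU i
    exact Scheme.isAffine_of_isLimit _ (limit.isLimit (WidePullbackShape.wideCospan V.toScheme
      (fun i : Fin d => (U i).toScheme) fV))
  have hWV : W ≤ (WidePullback.base (fun _ : Fin d => f)) ⁻¹ᵁ V := chartFam_le_base f U V
  have hWU : ∀ i, W ≤ (WidePullback.π (fun _ : Fin d => f) i) ⁻¹ᵁ U i := chartFam_le_π f U V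
  let a : W.toScheme ⟶ P := WidePullback.lift
    ((WidePullback.base (fun _ : Fin d => f)).resLE V W hWV)
    (fun i => (WidePullback.π (fun _ : Fin d => f) i).resLE (U i) W (hWU i))
    (fun i => by
      rw [← cancel_mono V.ι, Category.assoc, hfV, Scheme.Hom.resLE_comp_ι_assoc,
        Scheme.Hom.resLE_comp_ι, WidePullback.π_arrow])
  let m : P ⟶ SymProd.fibPow f d := WidePullback.lift
    (WidePullback.base fV ≫ V.ι)
    (fun i => WidePullback.π fV i ≫ (U i).ι)
    (fun i => by rw [Category.assoc, ← hfV, ← Category.assoc, WidePullback.π_arrow])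
  have hm : Set.range m.base ⊆ Set.range W.ι.base := by
    rintro _ ⟨z, rfl⟩
    rw [Scheme.Opens.range_ι]
    refine (mem_chartFam f _).mpr ⟨?_, fun i => ?_⟩
    · have e : (m ≫ WidePullback.base (fun _ : Fin d => f)).base z =
          V.ι.base ((WidePullback.base fV).base z) := by
        rw [WidePullback.lift_base]; rfl
      exact e ▸ ((WidePullback.base fV).base z).2
    · have e : (m ≫ WidePullback.π (fun _ : Fin d => f) i).base z =
          (U i).ι.base ((WidePullback.π fV i).base z) := by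
        rw [WidePullback.lift_π]; rfl
      exact e ▸ ((WidePullback.π fV i).base z).2
  let b : P ⟶ W.toScheme := IsOpenImmersion.lift W.ι m hm
  have hb : b ≫ W.ι = m := IsOpenImmersion.lift_fac _ _ _
  have ham : a ≫ m = W.ι := by
    apply WidePullback.hom_ext
    · intro i
      rw [Category.assoc, WidePullback.lift_π, WidePullback.lift_π_assoc, Scheme.Hom.resLE_comp_ι]
    · rw [Category.assoc, WidePullback.lift_base, WidePullback.lift_base_assoc,
        Scheme.Hom.resLE_comp_ι]
  have hab : a ≫ b = 𝟙 _ := by rw [← cancel_mono W.ι, Category.assoc, hb, ham, Category.id_comp]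
  have hba : b ≫ a = 𝟙 _ := by
    apply WidePullback.hom_ext
    · intro i
      rw [Category.assoc, WidePullback.lift_π, ← cancel_mono (U i).ι, Category.assoc,
        Scheme.Hom.resLE_comp_ι, reassoc_of% hb, WidePullback.lift_π, Category.id_comp]
    · rw [Category.assoc, WidePullback.lift_base, ← cancel_mono V.ι, Category.assoc,
        Scheme.Hom.resLE_comp_ι, reassoc_of% hb, WidePullback.lift_base, Category.id_comp]
  haveI : IsIso a := ⟨b, hab, hba⟩
  exact IsAffine.of_isIso a

variable {f}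

/-- The ring of a family chart is the tensor product of the rings of the members. -/
theorem exists_tensorFam_equiv {U : Fin d → X.Opens} {V : S.Opens} (hU : ∀ i, IsAffineOpen (U i))
    (hV : IsAffineOpen V) (hUV : ∀ i, U i ≤ f ⁻¹ᵁ V) :
    letI : ∀ i, Algebra Γ(S, V) Γ(X, U i) := fun i => (f.appLE V (U i) (hUV i)).hom.toAlgebra
    letI : Algebra Γ(S, V) Γ(SymProd.fibPow f d, chartFam f U V) :=
      ((WidePullback.base (fun _ : Fin d => f)).appLE V _ (chartFam_le_base f U V)).hom.toAlgebra
    ∃ e : (⨂[Γ(S, V)] i : Fin d, Γ(X, U i)) ≃ₐ[Γ(S, V)] Γ(SymProd.fibPow f d, chartFam f U V),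
      ∀ a : (i : Fin d) → Γ(X, U i), e (PiTensorProduct.tprod _ a) =
        ∏ i, ((WidePullback.π (fun _ : Fin d => f) i).appLE (U i) _
          (chartFam_le_π f U V i)).hom (a i) := by
  classical
  letI : ∀ i, Algebra Γ(S, V) Γ(X, U i) := fun i => (f.appLE V (U i) (hUV i)).hom.toAlgebra
  have hW := isAffineOpen_chartFam f hU hV hUV
  let W := chartFam f U V
  have hWV : W ≤ (WidePullback.base (fun _ : Fin d => f)) ⁻¹ᵁ V := chartFam_le_base f U V
  have hWU := chartFam_le_π f U V
  let b := WidePullback.base (fun _ : Fin d => f)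
  let π := fun i => WidePullback.π (fun _ : Fin d => f) i
  letI : Algebra Γ(S, V) Γ(SymProd.fibPow f d, W) := (b.appLE V W hWV).hom.toAlgebra
  let p : ∀ i, (Γ(X, U i) →ₐ[Γ(S, V)] Γ(SymProd.fibPow f d, W)) := fun i =>
    { ((π i).appLE (U i) W (hWU i)).hom with
      commutes' := fun r => by
        show ((π i).appLE (U i) W (hWU i)).hom ((f.appLE V (U i) (hUV i)).hom r) = (b.appLE V W hWV).hom r
        rw [appLE_comp_apply]
        exact appLE_congr_app (WidePullback.π_arrow _ i) V W _ r }
  let φ : (⨂[Γ(S, V)] i : Fin d, Γ(X, U i)) →ₐ[Γ(S, V)] Γ(SymProd.fibPow f d, W) :=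
    PiTensorProduct.liftAlgHom
      ((MultilinearMap.mkPiAlgebra Γ(S, V) (Fin d) Γ(SymProd.fibPow f d, W)).compLinearMap
        fun i => (p i).toLinearMap)
      (by simp)
      (fun x y => by simp [Finset.prod_mul_distrib])
  have hφt : ∀ a : (i : Fin d) → Γ(X, U i), φ (PiTensorProduct.tprod _ a) =
      ∏ i, ((π i).appLE (U i) W (hWU i)).hom (a i) := fun a => by
    show PiTensorProduct.lift _ (PiTensorProduct.tprod _ a) = _
    rw [PiTensorProduct.lift.tprod, MultilinearMap.compLinearMap_apply, MultilinearMap.mkPiAlgebra_apply]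
    rfl
  have hφsingle : ∀ (i : Fin d) (a : Γ(X, U i)),
      φ (PiTensorProduct.singleAlgHom i a) = ((π i).appLE (U i) W (hWU i)).hom a := fun i a => by
    rw [PiTensorProduct.singleAlgHom_apply, hφt, Finset.prod_eq_single i]
    · simp
    · intro j _ hj; simp [hj]
    · simp
  let T : CommRingCat.{u} := CommRingCat.of (⨂[Γ(S, V)] i : Fin d, Γ(X, U i))
  let φc : T ⟶ Γ(SymProd.fibPow f d, W) := CommRingCat.ofHom φ.toRingHom
  let sc : ∀ i, (Γ(X, U i) ⟶ T) := fun i => CommRingCat.ofHom
    (PiTensorProduct.singleAlgHom (R := Γ(S, V)) (A := fun i : Fin d => Γ(X, U i)) i).toRingHom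
  let ac : Γ(S, V) ⟶ T := CommRingCat.ofHom (algebraMap Γ(S, V) _)
  have hsφ : ∀ i, sc i ≫ φc = (π i).appLE (U i) W (hWU i) := fun i => CommRingCat.hom_ext
    (RingHom.ext fun a => hφsingle i a)
  have haφ : ac ≫ φc = b.appLE V W hWV := CommRingCat.hom_ext (RingHom.ext fun r => φ.commutes r)
  have hfs : ∀ i, f.appLE V (U i) (hUV i) ≫ sc i = ac := fun i => CommRingCat.hom_ext (RingHom.ext fun r =>
    (PiTensorProduct.singleAlgHom (R := Γ(S, V)) (A := fun i : Fin d => Γ(X, U i)) i).commutes r)
  let m : Spec T ⟶ SymProd.fibPow f d := WidePullback.lift (Spec.map ac ≫ hV.fromSpec)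
    (fun i => Spec.map (sc i) ≫ (hU i).fromSpec) (fun i => by
      rw [Category.assoc, ← hV.SpecMap_appLE_fromSpec f (hU i) (hUV i), ← Spec.map_comp_assoc, hfs i])
  have hmrange : Set.range m.base ⊆ Set.range hW.fromSpec.base := by
    rintro _ ⟨z, rfl⟩
    rw [hW.range_fromSpec]
    refine (mem_chartFam f _).mpr ⟨?_, fun i => ?_⟩
    · show (m ≫ WidePullback.base (fun _ : Fin d => f)).base z ∈ V
      rw [WidePullback.lift_base, ← SetLike.mem_coe, ← hV.range_fromSpec]
      exact ⟨(Spec.map ac).base z, rfl⟩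
    · show (m ≫ WidePullback.π (fun _ : Fin d => f) i).base z ∈ U i
      rw [WidePullback.lift_π, ← SetLike.mem_coe, ← (hU i).range_fromSpec]
      exact ⟨(Spec.map (sc i)).base z, rfl⟩
  let k : Spec T ⟶ Spec Γ(SymProd.fibPow f d, W) := IsOpenImmersion.lift hW.fromSpec m hmrange
  have hk : k ≫ hW.fromSpec = m := IsOpenImmersion.lift_fac _ _ _
  obtain ⟨ψ, hψ⟩ := Spec.map_surjective k
  have hφm : Spec.map φc ≫ m = hW.fromSpec := by
    apply WidePullback.hom_ext
    · intro i
      rw [Category.assoc, WidePullback.lift_π, ← Spec.map_comp_assoc, hsφ,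
        IsAffineOpen.SpecMap_appLE_fromSpec]
    · rw [Category.assoc, WidePullback.lift_base, ← Spec.map_comp_assoc, haφ,
        IsAffineOpen.SpecMap_appLE_fromSpec]
  have hψφ : ψ ≫ φc = 𝟙 _ := Spec.map_injective (by
    rw [Spec.map_comp, Spec.map_id, hψ, ← cancel_mono hW.fromSpec, Category.assoc, hk, hφm,
      Category.id_comp])
  have hπψ : ∀ i, (π i).appLE (U i) W (hWU i) ≫ ψ = sc i := fun i => Spec.map_injective (by
    rw [Spec.map_comp, hψ, ← cancel_mono (hU i).fromSpec, Category.assoc,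
      IsAffineOpen.SpecMap_appLE_fromSpec (hV := hW), reassoc_of% hk, WidePullback.lift_π])
  have hbψ : b.appLE V W hWV ≫ ψ = ac := Spec.map_injective (by
    rw [Spec.map_comp, hψ, ← cancel_mono hV.fromSpec, Category.assoc,
      IsAffineOpen.SpecMap_appLE_fromSpec (hV := hW), reassoc_of% hk, WidePullback.lift_base])
  let ψa : Γ(SymProd.fibPow f d, W) →ₐ[Γ(S, V)] (⨂[Γ(S, V)] i : Fin d, Γ(X, U i)) :=
    { ψ.hom with commutes' := fun r => DFunLike.congr_fun (congrArg CommRingCat.Hom.hom hbψ) r }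
  have h1 : φ.comp ψa = AlgHom.id _ _ :=
    AlgHom.ext fun x => DFunLike.congr_fun (congrArg CommRingCat.Hom.hom hψφ) x
  have h2 : ψa.comp φ = AlgHom.id _ _ := PiTensorProduct.algHom_ext fun i => AlgHom.ext fun a => by
    show ψ.hom (φ (PiTensorProduct.singleAlgHom i a)) = _
    rw [hφsingle]
    exact DFunLike.congr_fun (congrArg CommRingCat.Hom.hom (hπψ i)) a
  exact ⟨AlgEquiv.ofAlgHom φ ψa h1 h2, hφt⟩

end GrothLib.SymCmp4
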