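import Groth.Agent.Lib.SymCmp4.Basic
import Mathlib.LinearAlgebra.DFinsupp
import Mathlib.AlgebraicGeometry.Morphisms.Flat

/-!
Invariant sections on a family chart of a flat morphism come from invariant sections of the chart
before the change of base.
-/

universe u

open CategoryTheory CategoryTheory.Limits AlgebraicGeometry TopologicalSpace TensorProduct

set_option maxHeartbeats 1600000

namespace GrothLib.SymCmp4

open SymAF26 PolLaw

theorem flat_pi {B : Type u} [CommRing B] {L : Type u} [Finite L] {M : L → Type u}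
    [∀ l, AddCommGroup (M l)] [∀ l, Module B (M l)] [∀ l, Module.Flat B (M l)] :
    Module.Flat B (∀ l, M l) := by
  classical
  cases nonempty_fintype L
  exact Module.Flat.of_linearEquiv (DFinsupp.linearEquivFunOnFintype (R := B) (M := M)).symm

variable {X S S' Z : Scheme.{u}} {f : X ⟶ S} {h : Z ⟶ S'} {c : Z ⟶ X} {gS : S' ⟶ S}
  (w : c ≫ f = h ≫ gS) {d : ℕ} [IsClosedImmersion (pullback.lift c h w)] [Flat h]
  {L : Type u} [Finite L] {U : L → X.Opens} {V : S.Opens} {V' : S'.Opens} (ℓ : Fin d → L)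

/-- Invariant sections of a chart are combinations of pulled back invariant sections. -/
theorem mem_mulSpan_chart (hU : ∀ m, IsAffineOpen (U m)) (hV : IsAffineOpen V)
    (hV' : IsAffineOpen V') (hUV : ∀ m, U m ≤ f ⁻¹ᵁ V) (hV'V : V' ≤ gS ⁻¹ᵁ V)
    {O : (SymProd.fibPow f d).Opens} (hO : O = chartFam f (fun k => U (ℓ k)) V)
    {O' : (SymProd.fibPow h d).Opens}
    (hO' : O' = chartFam h (fun k => c ⁻¹ᵁ U (ℓ k) ⊓ h ⁻¹ᵁ V') V')
    (hle : O' ≤ (powMap w d) ⁻¹ᵁ O)
    (hb : O' ≤ (WidePullback.base (fun _ : Fin d => h)) ⁻¹ᵁ V')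
    (hHO : ∀ σ : Equiv.Perm (Fin d), (∀ k, ℓ (σ k) = ℓ k) → O ≤ (SymProd.permHom f d σ) ⁻¹ᵁ O)
    (hHO' : ∀ σ : Equiv.Perm (Fin d), (∀ k, ℓ (σ k) = ℓ k) →
      O' ≤ (SymProd.permHom h d σ) ⁻¹ᵁ O')
    (x : Γ(SymProd.fibPow h d, O'))
    (hx : ∀ σ hσ, pact h d O' σ (hHO' σ hσ) x = x) :
    x ∈ mulSpan ((powMap w d).appLE O O' hle).hom
      ((WidePullback.base (fun _ : Fin d => h)).appLE V' O' hb).hom
      (fun e => ∀ σ hσ, pact f d O σ (hHO σ hσ) e = e) := by
  classical
  subst hO hO'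
  let U' : L → Z.Opens := fun m => c ⁻¹ᵁ U m ⊓ h ⁻¹ᵁ V'
  have hgen : ∀ m, IsAffineOpen (U' m) ∧ _ := fun m => gen_affine w (hU m) hV hV' (hUV m) hV'V
  letI algM : ∀ m, Algebra Γ(S', V') Γ(Z, U' m) :=
    fun m => (h.appLE V' (U' m) inf_le_right).hom.toAlgebra
  letI algW : Algebra Γ(S', V') Γ(SymProd.fibPow h d, chartFam h (fun k => U' (ℓ k)) V') :=
    ((WidePullback.base (fun _ : Fin d => h)).appLE V' _ hb).hom.toAlgebra
  haveI : ∀ m, Module.Flat Γ(S', V') Γ(Z, U' m) := fun m =>
    HasRingHomProperty.appLE @Flat h inferInstance ⟨V', hV'⟩ ⟨U' m, (hgen m).1⟩ inf_le_right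
  haveI hflat : Module.Flat Γ(S', V') (∀ m, Γ(Z, U' m)) := flat_pi
  obtain ⟨e, he⟩ := exists_tensorFam_equiv (f := h) (U := fun k => U' (ℓ k)) (V := V')
    (fun k => (hgen (ℓ k)).1) hV' (fun k => inf_le_right)
  let N := ∀ m, Γ(Z, U' m)
  let prj : ∀ k, N →ₗ[Γ(S', V')] Γ(Z, U' (ℓ k)) := fun k => LinearMap.proj (ℓ k)
  let ins : ∀ k, Γ(Z, U' (ℓ k)) →ₗ[Γ(S', V')] N :=
    fun k => LinearMap.single Γ(S', V') (fun m => Γ(Z, U' m)) (ℓ k)
  let Φ : (⨂[Γ(S', V')] _ : Fin d, N) →ₗ[Γ(S', V')]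
      Γ(SymProd.fibPow h d, chartFam h (fun k => U' (ℓ k)) V') :=
    e.toLinearMap ∘ₗ PiTensorProduct.map prj
  let Sg : Γ(SymProd.fibPow h d, chartFam h (fun k => U' (ℓ k)) V') →ₗ[Γ(S', V')]
      (⨂[Γ(S', V')] _ : Fin d, N) :=
    PiTensorProduct.map ins ∘ₗ e.symm.toLinearMap
  let Pe : (⨂[Γ(S', V')] _ : Fin d, N) →ₗ[Γ(S', V')] (⨂[Γ(S', V')] _ : Fin d, N) :=
    PiTensorProduct.map fun k => ins k ∘ₗ prj k
  let R := fun σ : Equiv.Perm (Fin d) =>
    PiTensorProduct.reindex Γ(S', V') (fun _ : Fin d => N) σ.symm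
  have hR : ∀ σ (a : Fin d → N), R σ (PiTensorProduct.tprod _ a) =
      PiTensorProduct.tprod _ (a ∘ σ) := fun σ a => by
    simp [R, Function.comp_def]
  have hΦt : ∀ a : Fin d → N, Φ (PiTensorProduct.tprod _ a) =
      ∏ k, ((WidePullback.π (fun _ : Fin d => h) k).appLE (U' (ℓ k)) _
        (chartFam_le_π h _ _ k)).hom (a k (ℓ k)) := fun a => by
    show e (PiTensorProduct.map prj (PiTensorProduct.tprod _ a)) = _
    rw [PiTensorProduct.map_tprod, he]
    rfl
  have hΦSg : ∀ y, Φ (Sg y) = y := fun y => by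
    show e (PiTensorProduct.map prj (PiTensorProduct.map ins (e.symm y))) = y
    rw [← LinearMap.comp_apply (PiTensorProduct.map prj), ← PiTensorProduct.map_comp,
      show (fun k => prj k ∘ₗ ins k) = fun k => LinearMap.id from funext fun k => LinearMap.ext fun z =>
        (Pi.single_eq_same (M := fun m => Γ(Z, U' m)) (ℓ k) z), PiTensorProduct.map_id, LinearMap.id_apply, AlgEquiv.apply_symm_apply]
  have hSgΦ : ∀ t, Sg (Φ t) = Pe t := fun t => by
    show PiTensorProduct.map ins (e.symm (e (PiTensorProduct.map prj t))) = _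
    rw [AlgEquiv.symm_apply_apply, ← LinearMap.comp_apply (PiTensorProduct.map ins),
      ← PiTensorProduct.map_comp]
  have hequiv : ∀ σ (hσ : ∀ k, ℓ (σ k) = ℓ k) t,
      pact h d _ σ (hHO' σ hσ) (Φ t) = Φ (R σ t) := by
    intro σ hσ t
    induction t using PiTensorProduct.induction_on with
    | add a b ha hb => simp only [map_add, ha, hb]
    | smul_tprod r a =>
      rw [map_smul Φ, Algebra.smul_def, map_mul, map_smul (R σ), map_smul Φ, Algebra.smul_def, hR,
        hΦt, hΦt, map_prod]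
      congr 1
      · exact pact_base hb _ r
      · rw [← Equiv.prod_comp σ]
        refine Finset.prod_congr rfl fun j _ => ?_
        rw [pact, appLE_comp_apply,
          appLE_congr_app (SymProd.permHom_π h d σ (σ j)) _ _ _ _]
        have key : ∀ (i : Fin d) (m : L) (hm : ℓ j = m) (hi : i = j)
            (e₁ : chartFam h (fun k => U' (ℓ k)) V' ≤
              (WidePullback.π (fun _ : Fin d => h) i) ⁻¹ᵁ U' m),
            ((WidePullback.π (fun _ : Fin d => h) i).appLE (U' m) _ e₁).hom (a (σ j) m) =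
            ((WidePullback.π (fun _ : Fin d => h) j).appLE (U' (ℓ j)) _
              (chartFam_le_π h _ _ j)).hom ((a ∘ σ) j (ℓ j)) := by
          intro i m hm hi e₁; subst hm; subst hi; rfl
        exact key _ _ (hσ j).symm (Equiv.symm_apply_apply σ j) _
  have hPR : ∀ σ, (∀ k, ℓ (σ k) = ℓ k) → ∀ t, Pe (R σ t) = R σ (Pe t) := by
    intro σ hσ t
    induction t using PiTensorProduct.induction_on with
    | add a b ha hb => simp only [map_add, ha, hb]
    | smul_tprod r a =>
      simp only [map_smul, hR, Pe, PiTensorProduct.map_tprod, Function.comp_def]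
      congr 2
      funext k
      have key : ∀ m, ℓ k = m → (LinearMap.single Γ(S', V') (fun m => Γ(Z, U' m)) m) (a (σ k) m) =
          ins k (prj k (a (σ k))) := by intro m hm; subst hm; rfl
      exact (key _ (hσ k).symm).symm
  have hzero : ∀ ρ : Equiv.Perm (Fin d), ¬ (∀ k, ℓ (ρ k) = ℓ k) → ∀ s, Pe (R ρ (Pe s)) = 0 := by
    intro ρ hρ s
    obtain ⟨j, hj⟩ := not_forall.mp hρ
    induction s using PiTensorProduct.induction_on with
    | add a b ha hb => simp only [map_add, ha, hb, add_zero]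
    | smul_tprod r a =>
      simp only [map_smul, hR, Pe, PiTensorProduct.map_tprod]
      rw [MultilinearMap.map_coord_zero _ j, smul_zero]
      show ins j (prj j ((fun k => ins k (prj k (a k))) (ρ j))) = 0
      show Pi.single (M := fun m => Γ(Z, U' m)) (ℓ j)
        ((Pi.single (M := fun m => Γ(Z, U' m)) (ℓ (ρ j)) (a (ρ j) (ℓ (ρ j)))) (ℓ j)) = 0
      rw [Pi.single_eq_of_ne (Ne.symm hj), Pi.single_zero]
  -- extend the invariant to a symmetric tensor
  let H : Subgroup (Equiv.Perm (Fin d)) :=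
    { carrier := {σ | ∀ k, ℓ (σ k) = ℓ k}
      one_mem' := fun k => rfl
      mul_mem' := fun {σ τ} hs ht k => (hs (τ k)).trans (ht k)
      inv_mem' := fun {σ} hs k => by simpa using (hs (σ⁻¹ k)).symm }
  have hs : ∀ σ ∈ H, R σ (Sg x) = Sg x := fun σ hσ => by
    have h1 : Pe (Sg x) = Sg x := by rw [← hSgΦ, hΦSg]
    rw [← h1, ← hPR σ hσ, ← hSgΦ, ← hequiv σ hσ, hΦSg, hx σ hσ, h1]
  obtain ⟨r, r1, rm, rr⟩ := exists_reps H
  let t := ∑ ρ ∈ Finset.univ.image r, R ρ (Sg x)
  have hmul : ∀ σ τ z, R (σ * τ) z = R τ (R σ z) := by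
    intro σ τ z
    induction z using PiTensorProduct.induction_on with
    | add a b ha hb => simp only [map_add, ha, hb]
    | smul_tprod r a => simp only [map_smul, hR]; rfl
  have ht : t ∈ symTensor Γ(S', V') N d := mem_symTensor.mpr fun g => by
    have := trace_inv H rm rr (fun σ => (R σ).toLinearMap.toAddMonoidHom) hmul hs g.symm
    simpa [R, t] using this
  have hΦt' : Φ t = x := by
    simp only [t, map_sum]
    rw [Finset.sum_eq_single (1 : Equiv.Perm (Fin d))]
    · rw [hs 1 H.one_mem, hΦSg]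
    · intro ρ hρ hne
      have hρH : ¬ (∀ k, ℓ (ρ k) = ℓ k) := fun hh => hne (eq_one_of_mem_image H r1 rr rm hρ hh)
      rw [← hΦSg (Φ _), hSgΦ, show Sg x = Pe (Sg x) by rw [← hSgΦ, hΦSg], hzero ρ hρH, map_zero]
    · exact fun hne => absurd (Finset.mem_image.mpr ⟨1, Finset.mem_univ _, r1⟩) hne
  let ψ : (∀ m, Γ(X, U m)) → N := fun a m => (c.appLE (U m) (U' m) inf_le_left).hom (a m)
  have hψ : Submodule.span Γ(S', V') (Set.range ψ) = ⊤ := by
    refine eq_top_iff.mpr fun n _ => ?_
    cases nonempty_fintype L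
    rw [← Finset.univ_sum_single n]
    refine Submodule.sum_mem _ fun m _ => ?_
    have := (hgen m).2 (n m)
    refine (AddSubgroup.closure_le (K := (Submodule.span Γ(S', V') (Set.range ψ)).toAddSubgroup.comap
      (LinearMap.single Γ(S', V') (fun m => Γ(Z, U' m)) m).toAddMonoidHom)).mpr ?_ this
    rintro _ ⟨a, b, -, rfl⟩
    show LinearMap.single Γ(S', V') (fun m => Γ(Z, U' m)) m
      (b • (c.appLE (U m) (U' m) inf_le_left).hom a) ∈ Submodule.span Γ(S', V') (Set.range ψ)
    rw [map_smul]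
    refine Submodule.smul_mem _ _ (Submodule.subset_span ⟨Pi.single m a, ?_⟩)
    funext i
    rcases eq_or_ne i m with rfl | hne
    · simp [ψ]
    · simp [ψ, Pi.single_eq_of_ne hne]
  have hsp := mem_span_orbit_of_span ψ hψ ht
  rw [← hΦt']
  clear hx hs hΦt' ht
  generalize t = z at hsp ⊢
  induction hsp using Submodule.span_induction with
  | zero => rw [map_zero]; exact zero_mem _
  | add a b _ _ ha hb => rw [map_add]; exact add_mem ha hb
  | smul b z _ hz =>
    rw [map_smul, Algebra.smul_def]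
    refine map_mem_mulSpan (AddMonoidHom.mulLeft (algebraMap Γ(S', V')
      Γ(SymProd.fibPow h d, chartFam h (fun k => U' (ℓ k)) V') b)) (fun a b' ha => ?_) hz
    refine AddSubgroup.subset_closure ⟨a, b * b', ha, ?_⟩
    simp only [AddMonoidHom.coe_mulLeft]
    rw [← mul_assoc, map_mul]
    rfl
  | mem z hz =>
    obtain ⟨n, a, ν, rfl⟩ := hz
    let T := fun p : Fin d → Fin n => ∏ k, ((WidePullback.π (fun _ : Fin d => f) k).appLE (U (ℓ k)) _
      (chartFam_le_π f (fun k => U (ℓ k)) V k)).hom (a (p k) (ℓ k))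
    refine AddSubgroup.subset_closure
      ⟨∑ p : Fin d → Fin n with pat p = ν, T p, 1, fun σ hσ => ?_, ?_⟩
    · rw [map_sum]
      refine Finset.sum_bij (fun p _ => p ∘ σ) ?_ ?_ ?_ ?_
      · intro p hp
        simp only [Finset.mem_filter, Finset.mem_univ, true_and] at hp ⊢
        rw [pat_comp_perm, hp]
      · exact fun p _ q _ h => funext fun l => by simpa using congrFun h (σ.symm l)
      · intro p hp
        simp only [Finset.mem_filter, Finset.mem_univ, true_and] at hp
        exact ⟨p ∘ σ.symm, Finset.mem_filter.mpr ⟨Finset.mem_univ _, by rw [pat_comp_perm, hp]⟩,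
          funext fun l => by simp⟩
      · intro p _
        show pact f d _ σ _ (∏ k, _) = ∏ k, _
        rw [map_prod, ← Equiv.prod_comp σ]
        refine Finset.prod_congr rfl fun j _ => ?_
        rw [pact, appLE_comp_apply,
          appLE_congr_app (SymProd.permHom_π f d σ (σ j)) _ _ _ _]
        have key : ∀ (i : Fin d) (m : L) (hm : ℓ j = m) (hi : i = j)
            (e₁ : chartFam f (fun k => U (ℓ k)) V ≤
              (WidePullback.π (fun _ : Fin d => f) i) ⁻¹ᵁ U m),
            ((WidePullback.π (fun _ : Fin d => f) i).appLE (U m) _ e₁).hom (a (p (σ j)) m) =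
            ((WidePullback.π (fun _ : Fin d => f) j).appLE (U (ℓ j)) _
              (chartFam_le_π f _ _ j)).hom (a ((p ∘ σ) j) (ℓ j)) := by
          intro i m hm hi e₁; subst hm; subst hi; rfl
        exact key _ _ (hσ j).symm (Equiv.symm_apply_apply σ j) _
    · rw [map_one, one_mul, orbit, map_sum, map_sum]
      refine Finset.sum_congr (Finset.ext fun p => by simp) fun p _ => ?_
      rw [hΦt, map_prod]
      refine Finset.prod_congr rfl fun k _ => ?_
      simp only [ψ, Function.comp_apply, appLE_comp_apply]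
      exact appLE_congr_app (powMap_π w k).symm _ _ _ _

end GrothLib.SymCmp4
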