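import Groth.Agent.Lib.SymCmp4.ChartInv
import Groth.Agent.Lib.SGA1Quot21.Points

/-!
The comparison map of fibre powers over a change of base is a closed immersion; criteria on covers.
-/

universe u

open CategoryTheory CategoryTheory.Limits AlgebraicGeometry TopologicalSpace TensorProduct

set_option maxHeartbeats 800000

namespace GrothLib.SymCmp4

open SymAF26

theorem restrict_appTop_surjective {W T : Scheme.{u}} (n : W ⟶ T) (U : T.Opens)
    (h : Function.Surjective (n.app U).hom) : Function.Surjective (n ∣_ U).appTop.hom := by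
  have key : ∀ U' : T.Opens, U' = U → Function.Surjective (n.app U').hom := fun U' e => e ▸ h
  rw [morphismRestrict_appTop]
  intro x
  obtain ⟨a, ha⟩ := (ConcreteCategory.bijective_of_isIso (C := CommRingCat)
    (W.presheaf.map (eqToHom (image_morphismRestrict_preimage n U ⊤)).op)).2 x
  obtain ⟨b, rfl⟩ := key (U.ι ''ᵁ ⊤) (Scheme.Opens.ι_image_top _) a
  exact ⟨b, ha⟩

theorem isClosedImmersion_of_cover {W T : Scheme.{u}} (n : W ⟶ T)
    (H : ∀ t : T, ∃ U : T.Opens, t ∈ U ∧ IsAffineOpen U ∧ IsAffineOpen (n ⁻¹ᵁ U) ∧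
      Function.Surjective (n.app U).hom) : IsClosedImmersion n := by
  choose U ht hU hW hs using H
  refine IsZariskiLocalAtTarget.of_iSup_eq_top (P := @IsClosedImmersion) U
    (top_le_iff.mp fun t _ => Opens.mem_iSup.mpr ⟨t, ht t⟩) fun t => ?_
  haveI : IsAffine (U t).toScheme := hU t
  haveI : IsAffine (n ⁻¹ᵁ U t).toScheme := hW t
  exact IsClosedImmersion.of_surjective_of_isAffine _ (restrict_appTop_surjective n (U t) (hs t))

variable {X S S' Z : Scheme.{u}} {f : X ⟶ S} {h : Z ⟶ S'} {c : Z ⟶ X} {gS : S' ⟶ S}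
  (w : c ≫ f = h ≫ gS) {d : ℕ} [IsClosedImmersion (pullback.lift c h w)]

theorem mem_range_appLE_lift {A T P : Scheme.{u}}
    (j : P ⟶ T) (p : T ⟶ A) (α : P ⟶ A) (e : j ≫ p = α) {U : A.Opens} {Ω : T.Opens}
    (hΩ : Ω ≤ p ⁻¹ᵁ U) {O : P.Opens} (hO : O ≤ j ⁻¹ᵁ Ω) (hα : O ≤ α ⁻¹ᵁ U) (x : Γ(A, U)) :
    (α.appLE U O hα).hom x ∈ Set.range (j.appLE Ω O hO).hom := by
  subst e
  exact ⟨(p.appLE U Ω hΩ).hom x, appLE_comp_apply _ _ _ _ _ hΩ hO x⟩

/-- The comparison map of fibre powers is a closed immersion. -/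
theorem isClosedImmersion_powMap :
    IsClosedImmersion (pullback.lift (powMap w d) (WidePullback.base (fun _ : Fin d => h)) (powMap_base w)) := by
  let b₀ := WidePullback.base (fun _ : Fin d => f)
  let J := pullback.lift (powMap w d) (WidePullback.base (fun _ : Fin d => h)) (powMap_base w)
  refine isClosedImmersion_of_cover J fun t => ?_
  let z := (pullback.fst b₀ gS).base t
  obtain ⟨_, ⟨V, hV, rfl⟩, hzV, -⟩ := S.isBasis_affineOpens.exists_subset_of_mem_open
    (Set.mem_univ (b₀.base z)) isOpen_univ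
  have hs' : gS.base ((pullback.snd b₀ gS).base t) = b₀.base z := by
    show (pullback.snd b₀ gS ≫ gS).base t = (pullback.fst b₀ gS ≫ b₀).base t
    rw [pullback.condition]
  obtain ⟨_, ⟨V', hV', rfl⟩, htV', hV'V⟩ := S'.isBasis_affineOpens.exists_subset_of_mem_open
    (show (pullback.snd b₀ gS).base t ∈ gS ⁻¹ᵁ V by
      show gS.base _ ∈ V; rw [hs']; exact hzV) (gS ⁻¹ᵁ V).2
  have hex : ∀ k, ∃ U : X.Opens, IsAffineOpen U ∧ U ≤ f ⁻¹ᵁ V ∧
      (WidePullback.π (fun _ : Fin d => f) k).base z ∈ U := fun k => by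
    obtain ⟨_, ⟨U, hU, rfl⟩, hxU, hUV⟩ := X.isBasis_affineOpens.exists_subset_of_mem_open
      (show (WidePullback.π (fun _ : Fin d => f) k).base z ∈ f ⁻¹ᵁ V by
        show f.base _ ∈ V; rw [f_π]; exact hzV) (f ⁻¹ᵁ V).2
    exact ⟨U, hU, hUV, hxU⟩
  choose U hU hUV hxU using hex
  let O := chartFam f U V
  have hO : IsAffineOpen O := isAffineOpen_chartFam f hU hV hUV
  let Ω := pullback.fst b₀ gS ⁻¹ᵁ O ⊓ pullback.snd b₀ gS ⁻¹ᵁ V'
  haveI : IsAffine O.toScheme := hO
  haveI : IsAffine (Scheme.Opens.toScheme (X := S) V) := hV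
  haveI : IsAffine (Scheme.Opens.toScheme (X := S') V') := hV'
  have hΩ : IsAffineOpen Ω := .of_isIso (Scheme.Hom.isPullback_resLE (IsPullback.of_hasPullback b₀ gS)
    (US := V) (UT := V') (UX := O) hV'V (chartFam_le_base f U V) (UY := Ω) rfl).isoPullback.hom
  let O' := chartFam h (fun k => c ⁻¹ᵁ U k ⊓ h ⁻¹ᵁ V') V'
  have hgen := fun k => gen_affine w (hU k) hV hV' (hUV k) hV'V
  have e : J ⁻¹ᵁ Ω = O' := by
    refine Opens.ext (Set.ext fun x => ?_)
    have e1 : (pullback.fst b₀ gS).base (J.base x) = (powMap w d).base x :=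
      congrArg (fun m : SymProd.fibPow h d ⟶ _ => m.base x) (pullback.lift_fst _ _ _)
    have e2 : (pullback.snd b₀ gS).base (J.base x) = (WidePullback.base (fun _ : Fin d => h)).base x :=
      congrArg (fun m : SymProd.fibPow h d ⟶ _ => m.base x) (pullback.lift_snd _ _ _)
    have eπ : ∀ i, (WidePullback.π (fun _ : Fin d => f) i).base ((powMap w d).base x) =
        c.base ((WidePullback.π (fun _ : Fin d => h) i).base x) := fun i =>
      congrArg (fun m : SymProd.fibPow h d ⟶ X => m.base x) (powMap_π w i)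
    have eb : (WidePullback.base (fun _ : Fin d => f)).base ((powMap w d).base x) =
        gS.base ((WidePullback.base (fun _ : Fin d => h)).base x) :=
      congrArg (fun m : SymProd.fibPow h d ⟶ S => m.base x) (powMap_base w)
    show ((pullback.fst b₀ gS).base (J.base x) ∈ chartFam f U V ∧
      (pullback.snd b₀ gS).base (J.base x) ∈ V') ↔ x ∈ chartFam h _ V'
    rw [e1, e2, mem_chartFam, mem_chartFam, eb]
    simp only [eπ]
    constructor
    · rintro ⟨⟨-, h2⟩, h1⟩
      refine ⟨h1, fun i => ⟨h2 i, ?_⟩⟩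
      show h.base ((WidePullback.π (fun _ : Fin d => h) i).base x) ∈ V'
      rw [f_π]; exact h1
    · rintro ⟨h1, h2⟩
      exact ⟨⟨hV'V h1, fun i => (h2 i).1⟩, h1⟩
  refine ⟨Ω, ⟨(mem_chartFam f z).mpr ⟨hzV, hxU⟩, htV'⟩, hΩ,
    e ▸ isAffineOpen_chartFam h (fun k => (hgen k).1) hV' (fun k => inf_le_right), ?_⟩
  suffices hs : Function.Surjective (J.appLE Ω O' e.ge).hom by
    have : ∀ (O'' : (SymProd.fibPow h d).Opens) (e' : O'' = J ⁻¹ᵁ Ω),
        Function.Surjective (J.appLE Ω O'' e'.le).hom → Function.Surjective (J.app Ω).hom := by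
      rintro _ rfl hh; rwa [Scheme.Hom.appLE_eq_app] at hh
    exact this O' e.symm hs
  intro x
  letI algM : ∀ k, Algebra Γ(S', V') Γ(Z, c ⁻¹ᵁ U k ⊓ h ⁻¹ᵁ V') :=
    fun k => (h.appLE V' _ inf_le_right).hom.toAlgebra
  letI algW : Algebra Γ(S', V') Γ(SymProd.fibPow h d, O') :=
    ((WidePullback.base (fun _ : Fin d => h)).appLE V' _ (chartFam_le_base h _ V')).hom.toAlgebra
  obtain ⟨φ, hφ⟩ := exists_tensorFam_equiv (f := h) (U := fun k => c ⁻¹ᵁ U k ⊓ h ⁻¹ᵁ V') (V := V')
    (fun k => (hgen k).1) hV' (fun k => inf_le_right)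
  let R := (J.appLE Ω O' e.ge).hom.range
  have hbR : ∀ r, ((WidePullback.base (fun _ : Fin d => h)).appLE V' O' (chartFam_le_base h _ V')).hom r ∈ R :=
    fun r => mem_range_appLE_lift J (pullback.snd b₀ gS) _ (pullback.lift_snd _ _ _) inf_le_right _ _ r
  suffices hx : x ∈ R from hx
  obtain ⟨t, rfl⟩ := φ.surjective x
  induction t using PiTensorProduct.induction_on with
  | add a b ha hb => rw [map_add]; exact add_mem ha hb
  | smul_tprod r a =>
    rw [map_smul, Algebra.smul_def, hφ]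
    refine mul_mem (hbR r) (Subring.prod_mem R fun k _ => ?_)
    refine (AddSubgroup.closure_le (K := R.toAddSubgroup.comap
      ((WidePullback.π (fun _ : Fin d => h) k).appLE (c ⁻¹ᵁ U k ⊓ h ⁻¹ᵁ V') O'
        (chartFam_le_π h _ V' k)).hom.toAddMonoidHom)).mpr ?_ ((hgen k).2 (a k))
    rintro _ ⟨u, v, -, rfl⟩
    show ((WidePullback.π (fun _ : Fin d => h) k).appLE _ O' (chartFam_le_π h _ V' k)).hom (_ * _) ∈ R
    rw [map_mul, appLE_comp_apply, appLE_comp_apply]
    refine mul_mem ?_ ?_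
    · rw [appLE_congr_app (WidePullback.π_arrow (fun _ : Fin d => h) k) _ _ _ _]
      exact hbR v
    · rw [appLE_congr_app (powMap_π w k).symm _ _ _ _,
        ← appLE_comp_apply (powMap w d) (WidePullback.π (fun _ : Fin d => f) k) (U k) O O'
          (chartFam_le_π f U V k) (fun y hy => by
            have h1 : (pullback.fst b₀ gS).base (J.base y) ∈ O := (e.ge hy).1
            have e1 : (pullback.fst b₀ gS).base (J.base y) = (powMap w d).base y :=
              congrArg (fun m : SymProd.fibPow h d ⟶ _ => m.base y) (pullback.lift_fst _ _ _)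
            rw [e1] at h1
            exact h1)]
      exact mem_range_appLE_lift J (pullback.fst b₀ gS) _ (pullback.lift_fst _ _ _) inf_le_left _ _ _

end GrothLib.SymCmp4
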