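import Groth.Agent.Lib.SymCmp4.ChartInv
import Groth.Agent.Lib.PolLaw.SymFlat

/-!
The invariant sections of a family chart of a flat morphism form a flat module.
-/

universe u

open CategoryTheory CategoryTheory.Limits AlgebraicGeometry TopologicalSpace TensorProduct

set_option maxHeartbeats 1600000

namespace GrothLib.SymCmp4

open SymAF26 PolLaw

variable {X S : Scheme.{u}} {f : X ⟶ S} {d : ℕ} [Flat f] {L : Type u} [Finite L]
  {U : L → X.Opens} {V : S.Opens} (ℓ : Fin d → L)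

/-- Relations among invariant sections of a chart are trivial. -/
theorem isTrivialRelation_chart (hU : ∀ m, IsAffineOpen (U m)) (hV : IsAffineOpen V)
    (hUV : ∀ m, U m ≤ f ⁻¹ᵁ V) {O : (SymProd.fibPow f d).Opens}
    (hO : O = chartFam f (fun k => U (ℓ k)) V)
    (hb : O ≤ (WidePullback.base (fun _ : Fin d => f)) ⁻¹ᵁ V)
    (hHO : ∀ σ : Equiv.Perm (Fin d), (∀ k, ℓ (σ k) = ℓ k) → O ≤ (SymProd.permHom f d σ) ⁻¹ᵁ O)
    {l : ℕ} (r : Fin l → Γ(S, V)) (x : Fin l → Γ(SymProd.fibPow f d, O))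
    (hx : ∀ i σ hσ, pact f d O σ (hHO σ hσ) (x i) = x i)
    (h0 : ∑ i, ((WidePullback.base (fun _ : Fin d => f)).appLE V O hb).hom (r i) * x i = 0) :
    ∃ (n : ℕ) (a : Fin l → Fin n → Γ(S, V)) (y : Fin n → Γ(SymProd.fibPow f d, O)),
      (∀ j σ hσ, pact f d O σ (hHO σ hσ) (y j) = y j) ∧
      (∀ i, x i = ∑ j, ((WidePullback.base (fun _ : Fin d => f)).appLE V O hb).hom (a i j) * y j) ∧
      ∀ j, ∑ i, r i * a i j = 0 := by
  classical
  subst hO
  letI algM : ∀ m, Algebra Γ(S, V) Γ(X, U m) := fun m => (f.appLE V (U m) (hUV m)).hom.toAlgebra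
  letI algW : Algebra Γ(S, V) Γ(SymProd.fibPow f d, chartFam f (fun k => U (ℓ k)) V) :=
    ((WidePullback.base (fun _ : Fin d => f)).appLE V _ hb).hom.toAlgebra
  haveI : ∀ m, Module.Flat Γ(S, V) Γ(X, U m) := fun m =>
    HasRingHomProperty.appLE @Flat f inferInstance ⟨V, hV⟩ ⟨U m, hU m⟩ (hUV m)
  haveI hflat : Module.Flat Γ(S, V) (∀ m, Γ(X, U m)) := flat_pi
  obtain ⟨e, he⟩ := exists_tensorFam_equiv (f := f) (U := fun k => U (ℓ k)) (V := V)
    (fun k => hU (ℓ k)) hV (fun k => hUV (ℓ k))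
  let N := ∀ m, Γ(X, U m)
  let prj : ∀ k, N →ₗ[Γ(S, V)] Γ(X, U (ℓ k)) := fun k => LinearMap.proj (ℓ k)
  let ins : ∀ k, Γ(X, U (ℓ k)) →ₗ[Γ(S, V)] N :=
    fun k => LinearMap.single Γ(S, V) (fun m => Γ(X, U m)) (ℓ k)
  let Φ : (⨂[Γ(S, V)] _ : Fin d, N) →ₗ[Γ(S, V)]
      Γ(SymProd.fibPow f d, chartFam f (fun k => U (ℓ k)) V) :=
    e.toLinearMap ∘ₗ PiTensorProduct.map prj
  let Sg : Γ(SymProd.fibPow f d, chartFam f (fun k => U (ℓ k)) V) →ₗ[Γ(S, V)]
      (⨂[Γ(S, V)] _ : Fin d, N) :=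
    PiTensorProduct.map ins ∘ₗ e.symm.toLinearMap
  let Pe : (⨂[Γ(S, V)] _ : Fin d, N) →ₗ[Γ(S, V)] (⨂[Γ(S, V)] _ : Fin d, N) :=
    PiTensorProduct.map fun k => ins k ∘ₗ prj k
  let R := fun σ : Equiv.Perm (Fin d) =>
    PiTensorProduct.reindex Γ(S, V) (fun _ : Fin d => N) σ.symm
  have hR : ∀ σ (a : Fin d → N), R σ (PiTensorProduct.tprod _ a) =
      PiTensorProduct.tprod _ (a ∘ σ) := fun σ a => by
    simp [R, Function.comp_def]
  have hΦt : ∀ a : Fin d → N, Φ (PiTensorProduct.tprod _ a) =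
      ∏ k, ((WidePullback.π (fun _ : Fin d => f) k).appLE (U (ℓ k)) _
        (chartFam_le_π f _ _ k)).hom (a k (ℓ k)) := fun a => by
    show e (PiTensorProduct.map prj (PiTensorProduct.tprod _ a)) = _
    rw [PiTensorProduct.map_tprod, he]
    rfl
  have hΦSg : ∀ y, Φ (Sg y) = y := fun y => by
    show e (PiTensorProduct.map prj (PiTensorProduct.map ins (e.symm y))) = y
    rw [← LinearMap.comp_apply (PiTensorProduct.map prj), ← PiTensorProduct.map_comp,
      show (fun k => prj k ∘ₗ ins k) = fun k => LinearMap.id from funext fun k => LinearMap.ext fun z =>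
        (Pi.single_eq_same (M := fun m => Γ(X, U m)) (ℓ k) z), PiTensorProduct.map_id, LinearMap.id_apply,
      AlgEquiv.apply_symm_apply]
  have hSgΦ : ∀ t, Sg (Φ t) = Pe t := fun t => by
    show PiTensorProduct.map ins (e.symm (e (PiTensorProduct.map prj t))) = _
    rw [AlgEquiv.symm_apply_apply, ← LinearMap.comp_apply (PiTensorProduct.map ins),
      ← PiTensorProduct.map_comp]
  have hequiv : ∀ σ (hσ : ∀ k, ℓ (σ k) = ℓ k) t,
      pact f d _ σ (hHO σ hσ) (Φ t) = Φ (R σ t) := by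
    intro σ hσ t
    induction t using PiTensorProduct.induction_on with
    | add a b ha hb => simp only [map_add, ha, hb]
    | smul_tprod r a =>
      rw [map_smul Φ, Algebra.smul_def, map_mul, map_smul (R σ), map_smul Φ, Algebra.smul_def, hR,
        hΦt, hΦt, map_prod]
      congr 1
      · exact pact_base hb _ r
      · rw [← Equiv.prod_comp σ]
        refine Finset.prod_congr rfl fun j _ => ?_
        rw [pact, appLE_comp_apply,
          appLE_congr_app (SymProd.permHom_π f d σ (σ j)) _ _ _ _]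
        have key : ∀ (i : Fin d) (m : L) (hm : ℓ j = m) (hi : i = j)
            (e₁ : chartFam f (fun k => U (ℓ k)) V ≤
              (WidePullback.π (fun _ : Fin d => f) i) ⁻¹ᵁ U m),
            ((WidePullback.π (fun _ : Fin d => f) i).appLE (U m) _ e₁).hom (a (σ j) m) =
            ((WidePullback.π (fun _ : Fin d => f) j).appLE (U (ℓ j)) _
              (chartFam_le_π f _ _ j)).hom ((a ∘ σ) j (ℓ j)) := by
          intro i m hm hi e₁; subst hm; subst hi; rfl
        exact key _ _ (hσ j).symm (Equiv.symm_apply_apply σ j) _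
  have hPR : ∀ σ, (∀ k, ℓ (σ k) = ℓ k) → ∀ t, Pe (R σ t) = R σ (Pe t) := by
    intro σ hσ t
    induction t using PiTensorProduct.induction_on with
    | add a b ha hb => simp only [map_add, ha, hb]
    | smul_tprod r a =>
      simp only [map_smul, hR, Pe, PiTensorProduct.map_tprod, Function.comp_def]
      congr 2
      funext k
      have key : ∀ m, ℓ k = m → (LinearMap.single Γ(S, V) (fun m => Γ(X, U m)) m) (a (σ k) m) =
          ins k (prj k (a (σ k))) := by intro m hm; subst hm; rfl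
      exact (key _ (hσ k).symm).symm
  have hzero : ∀ ρ : Equiv.Perm (Fin d), ¬ (∀ k, ℓ (ρ k) = ℓ k) → ∀ s, Pe (R ρ (Pe s)) = 0 := by
    intro ρ hρ s
    obtain ⟨j, hj⟩ := not_forall.mp hρ
    induction s using PiTensorProduct.induction_on with
    | add a b ha hb => simp only [map_add, ha, hb, add_zero]
    | smul_tprod r a =>
      simp only [map_smul, hR, Pe, PiTensorProduct.map_tprod]
      rw [MultilinearMap.map_coord_zero _ j, smul_zero]
      show ins j (prj j ((fun k => ins k (prj k (a k))) (ρ j))) = 0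
      show Pi.single (M := fun m => Γ(X, U m)) (ℓ j)
        ((Pi.single (M := fun m => Γ(X, U m)) (ℓ (ρ j)) (a (ρ j) (ℓ (ρ j)))) (ℓ j)) = 0
      rw [Pi.single_eq_of_ne (Ne.symm hj), Pi.single_zero]
  let H : Subgroup (Equiv.Perm (Fin d)) :=
    { carrier := {σ | ∀ k, ℓ (σ k) = ℓ k}
      one_mem' := fun k => rfl
      mul_mem' := fun {σ τ} hs ht k => (hs (τ k)).trans (ht k)
      inv_mem' := fun {σ} hs k => by simpa using (hs (σ⁻¹ k)).symm }
  obtain ⟨ρr, r1, rm, rr⟩ := exists_reps H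
  have hmul : ∀ σ τ z, R (σ * τ) z = R τ (R σ z) := by
    intro σ τ z
    induction z using PiTensorProduct.induction_on with
    | add a b ha hb => simp only [map_add, ha, hb]
    | smul_tprod r a => simp only [map_smul, hR]; rfl
  let T : Γ(SymProd.fibPow f d, chartFam f (fun k => U (ℓ k)) V) →ₗ[Γ(S, V)]
      (⨂[Γ(S, V)] _ : Fin d, N) := (∑ ρ ∈ Finset.univ.image ρr, (R ρ).toLinearMap) ∘ₗ Sg
  have hT : ∀ z, T z = ∑ ρ ∈ Finset.univ.image ρr, R ρ (Sg z) := fun z => by
    simp [T, LinearMap.sum_apply]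
  have hΦT : ∀ z, Φ (T z) = z := fun z => by
    rw [hT, map_sum, Finset.sum_eq_single (1 : Equiv.Perm (Fin d))]
    · have h1 : ∀ t, R 1 t = t := fun t => by
        induction t using PiTensorProduct.induction_on with
        | add a b ha hb => simp only [map_add, ha, hb]
        | smul_tprod r a => simp only [map_smul, hR]; rfl
      rw [h1, hΦSg]
    · intro ρ hρ hne
      have hρH : ¬ (∀ k, ℓ (ρ k) = ℓ k) := fun hh => hne (eq_one_of_mem_image H r1 rr rm hρ hh)
      rw [← hΦSg (Φ _), hSgΦ, show Sg z = Pe (Sg z) by rw [← hSgΦ, hΦSg], hzero ρ hρH, map_zero]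
    · exact fun hne => absurd (Finset.mem_image.mpr ⟨1, Finset.mem_univ _, r1⟩) hne
  have hTmem : ∀ z, (∀ σ (hσ : ∀ k, ℓ (σ k) = ℓ k), pact f d _ σ (hHO σ hσ) z = z) →
      T z ∈ symTensor Γ(S, V) N d := fun z hz => by
    have hs : ∀ σ ∈ H, R σ (Sg z) = Sg z := fun σ hσ => by
      have h1 : Pe (Sg z) = Sg z := by rw [← hSgΦ, hΦSg]
      rw [← h1, ← hPR σ hσ, ← hSgΦ, ← hequiv σ hσ, hΦSg, hz σ hσ, h1]
    refine mem_symTensor.mpr fun g => ?_
    rw [hT]
    have := trace_inv H rm rr (fun σ => (R σ).toLinearMap.toAddMonoidHom) hmul hs g.symm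
    simpa [R] using this
  haveI : Module.Flat Γ(S, V) (symTensor Γ(S, V) N d) := flat_symTensor
  obtain ⟨n, a, y, hxy, hry⟩ := Module.Flat.isTrivialRelation_of_sum_smul_eq_zero
    (R := Γ(S, V)) (M := symTensor Γ(S, V) N d) (f := r)
    (x := fun i => ⟨T (x i), hTmem _ (hx i)⟩) (by
      refine Subtype.ext ?_
      simp only [AddSubmonoidClass.coe_finsetSum, Submodule.coe_smul, ZeroMemClass.coe_zero]
      simp only [← map_smul, ← map_sum]
      rw [show ∑ i, r i • x i = 0 by simpa only [Algebra.smul_def] using! h0, map_zero])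
  refine ⟨n, a, fun j => Φ (y j).1, fun j σ hσ => ?_, fun i => ?_, hry⟩
  · rw [hequiv σ hσ, show R σ (y j).1 = (y j).1 from mem_symTensor.mp (y j).2 σ.symm]
  · have := congrArg (fun t => Φ t.1) (hxy i)
    simp only [AddSubmonoidClass.coe_finsetSum, Submodule.coe_smul, map_sum, map_smul, hΦT,
      Algebra.smul_def] at this
    exact this

end GrothLib.SymCmp4
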