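import Groth.Prelude.Def_SymProd
import Mathlib.AlgebraicGeometry.Morphisms.Flat

/-!
Fibre powers of flat morphisms are flat.
-/

universe u

set_option backward.isDefEq.respectTransparency false

open CategoryTheory CategoryTheory.Limits AlgebraicGeometry

namespace GrothLib.SymCmp4

theorem flat_fibPow_base {X S : Scheme.{u}} (f : X ⟶ S) [Flat f] :
    ∀ d : ℕ, Flat (WidePullback.base (fun _ : Fin d => f))
  | 0 => by
    let i : S ⟶ SymProd.fibPow f 0 := WidePullback.lift (𝟙 S) (fun k => k.elim0) (fun k => k.elim0)
    haveI : IsIso (WidePullback.base (fun _ : Fin 0 => f)) := ⟨i, by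
      apply WidePullback.hom_ext
      · exact fun k => k.elim0
      · rw [Category.assoc, WidePullback.lift_base, Category.comp_id, Category.id_comp], WidePullback.lift_base _ _ _ _⟩
    infer_instance
  | d + 1 => by
    haveI := flat_fibPow_base f d
    let b := WidePullback.base (fun _ : Fin d => f)
    let b' := WidePullback.base (fun _ : Fin (d + 1) => f)
    let a : SymProd.fibPow f (d + 1) ⟶ pullback b f :=
      pullback.lift (WidePullback.lift b' (fun i => WidePullback.π _ i.castSucc)
          (fun i => WidePullback.π_arrow _ _))
        (WidePullback.π _ (Fin.last d)) (by rw [WidePullback.lift_base, WidePullback.π_arrow])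
    let i : pullback b f ⟶ SymProd.fibPow f (d + 1) :=
      WidePullback.lift (pullback.fst b f ≫ b)
        (Fin.lastCases (motive := fun _ => pullback b f ⟶ X) (pullback.snd b f)
          (fun k => pullback.fst b f ≫ WidePullback.π _ k))
        (Fin.lastCases (by simp [pullback.condition]) (fun k => by simp [b]))
    haveI : IsIso a := ⟨i, by
      apply WidePullback.hom_ext
      · refine Fin.lastCases ?_ (fun k => ?_)
        · simp [a, i, pullback.lift_snd]
        · simp [a, i, pullback.lift_fst_assoc]
      · simp [a, i, b, b'], by
      apply pullback.hom_ext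
      · rw [Category.assoc, pullback.lift_fst, Category.id_comp]
        apply WidePullback.hom_ext
        · intro k; simp [i]
        · simp [i, b', b]
      · rw [Category.assoc, pullback.lift_snd]; simp [i]⟩
    have e : b' = a ≫ pullback.fst b f ≫ b := by simp [a, b]
    rw [show WidePullback.base (fun _ : Fin (d + 1) => f) = _ from e]
    infer_instance

end GrothLib.SymCmp4
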