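import Groth.Agent.Lib.SymCmp4.Local
import Groth.Agent.Lib.SymCmp4.FlatChart
import Groth.Agent.Lib.SGA1Quot21.Points

/-!
Symmetric products of flat morphisms are flat, without (AF).
-/

universe u

open CategoryTheory CategoryTheory.Limits AlgebraicGeometry TopologicalSpace

set_option maxHeartbeats 1600000

namespace GrothLib.SymCmp4

open SymAF26

variable {X S Y : Scheme.{u}} {f : X ⟶ S} {d : ℕ} {q : SymProd.fibPow f d ⟶ Y} {g : Y ⟶ S}

/-- Around a point of the symmetric product, relations among sections become trivial after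
multiplication by a section nonvanishing at the point. -/
theorem exists_trivialRelation_local [Flat f] (hq : SymProd.IsSymProd f d q g) {W₀ : Y.Opens}
    (hW₀ : IsAffineOpen W₀) {V : S.Opens} (hV : IsAffineOpen V) (hW₀V : W₀ ≤ g ⁻¹ᵁ V)
    (z : ↥(SymProd.fibPow f d)) (hz : q.base z ∈ W₀) {l : ℕ} (r : Fin l → Γ(S, V))
    (x : Fin l → Γ(Y, W₀)) (h0 : ∑ i, (g.appLE V W₀ hW₀V).hom (r i) * x i = 0) :
    ∃ (a : Γ(Y, W₀)) (n : ℕ) (c : Fin l → Fin n → Γ(S, V)) (y : Fin n → Γ(Y, W₀)),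
      q.base z ∈ Y.basicOpen a ∧ (∀ i, a * x i = ∑ j, (g.appLE V W₀ hW₀V).hom (c i j) * y j) ∧
      ∀ j, ∑ i, r i * c i j = 0 := by
  classical
  have hperm : ∀ σ, SymProd.permHom f d σ ≫ q = q := fun σ => by
    have := hq.isQuot.inv (ULift.up σ)
    rwa [SymProd.permActU_hom] at this
  have hP₀σ : ∀ σ, q ⁻¹ᵁ W₀ ≤ (SymProd.permHom f d σ) ⁻¹ᵁ (q ⁻¹ᵁ W₀) := fun σ => by
    rw [← Scheme.Hom.comp_preimage, hperm]
  haveI := hq.isQuot.affine
  have hP₀ : IsAffineOpen (q ⁻¹ᵁ W₀) := hW₀.preimage q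
  -- the labelling
  let T : Finset X := Finset.univ.image fun k => (WidePullback.π (fun _ : Fin d => f) k).base z
  let L : Type u := {x : X // x ∈ T}
  let ℓ : Fin d → L := fun k =>
    ⟨(WidePullback.π (fun _ : Fin d => f) k).base z, Finset.mem_image_of_mem _ (Finset.mem_univ k)⟩
  have hfT : ∀ x : L, f.base x.1 ∈ V := fun x => by
    obtain ⟨k, -, hk⟩ := Finset.mem_image.mp x.2
    rw [← hk, f_π, ← base_eq d hq]
    exact hW₀V hz
  have hex : ∀ x : L, ∃ U : X.Opens, IsAffineOpen U ∧ U ≤ f ⁻¹ᵁ V ∧ x.1 ∈ U := fun x => by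
    obtain ⟨_, ⟨U, hU, rfl⟩, hxU, hUV⟩ :=
      X.isBasis_affineOpens.exists_subset_of_mem_open (hfT x : x.1 ∈ f ⁻¹ᵁ V) (f ⁻¹ᵁ V).2
    exact ⟨U, hU, hUV, hxU⟩
  choose U hU hUV hxU using hex
  let H : Subgroup (Equiv.Perm (Fin d)) :=
    { carrier := {σ | ∀ k, ℓ (σ k) = ℓ k}
      one_mem' := fun k => rfl
      mul_mem' := fun {σ τ} hs ht k => (hs (τ k)).trans (ht k)
      inv_mem' := fun {σ} hs k => by simpa using (hs (σ⁻¹ k)).symm }
  have hstab : ∀ σ, (SymProd.permHom f d σ).base z = z → σ ∈ H := fun σ hσ k => by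
    refine Subtype.ext ?_
    have := π_perm f d σ z (σ k)
    rw [hσ, Equiv.symm_apply_apply] at this
    exact this
  let O := chartFam f (fun k => U (ℓ k)) V
  have hO : IsAffineOpen O := isAffineOpen_chartFam f (fun k => hU _) hV (fun k => hUV _)
  have hOσ : ∀ σ ∈ H, O ≤ (SymProd.permHom f d σ) ⁻¹ᵁ O := fun σ hσ =>
    (preimage_chartFam f _ V σ fun k => congrArg U (hσ k)).ge
  have hzO : z ∈ O := (mem_chartFam f z).mpr ⟨by rw [← base_eq d hq]; exact hW₀V hz, fun k => hxU (ℓ k)⟩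
  have hzP : ∀ σ, (SymProd.permHom f d σ).base z ∈ q ⁻¹ᵁ W₀ := fun σ => hP₀σ σ hz
  -- avoid the other translates
  let bad : Set ↥(SymProd.fibPow f d) :=
    ⋃ ρ ∈ {ρ : Equiv.Perm (Fin d) | ρ ∉ H}, closure {(SymProd.permHom f d ρ).base z}
  have hbad : IsClosed bad := (Set.toFinite _).isClosed_biUnion fun _ _ => isClosed_closure
  let good : (SymProd.fibPow f d).Opens := ⟨badᶜ, hbad.isOpen_compl⟩
  have hzgood : ∀ σ ∈ H, (SymProd.permHom f d σ).base z ∈ good := by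
    intro σ hσ hmem
    obtain ⟨ρ, hρ, hm⟩ := Set.mem_iUnion₂.mp hmem
    have hsp := (specializes_iff_mem_closure.mpr hm).map
      (Scheme.Hom.continuous (SymProd.permHom f d σ⁻¹))
    have e1 : ∀ a b, (SymProd.permHom f d a).base ((SymProd.permHom f d b).base z) =
        (SymProd.permHom f d (a * b)).base z := fun a b => by rw [SymProd.permHom_mul]; rfl
    have e2 : (SymProd.permHom f d 1).base z = z := by rw [SymProd.permHom_one]; rfl
    rw [e1, e1, inv_mul_cancel, e2] at hsp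
    have := hstab _ (perm_eq_of_specializes hsp)
    exact hρ (by simpa using H.mul_mem hσ this)
  obtain ⟨h₀, h₀inv, hzh₀, hh₀⟩ := exists_invariant_basicOpen hP₀ H (fun σ _ => hP₀σ σ)
    (W := O ⊓ good) (fun σ _ => hzP σ) (fun σ hσ => ⟨hOσ σ hσ hzO, hzgood σ hσ⟩)
  have hD₀ : ∀ σ ∈ H, (SymProd.permHom f d σ).base z ∈ (SymProd.fibPow f d).basicOpen h₀ :=
    fun σ hσ => ((mem_basicOpen_pact_iff (hP₀σ σ) h₀ z).mp (by rw [h₀inv σ hσ]; exact hzh₀)).2
  obtain ⟨k, kinv, hzk, hk⟩ := exists_invariant_basicOpen hO H hOσ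
    (W := (SymProd.fibPow f d).basicOpen h₀) (fun σ hσ => hOσ σ hσ hzO) hD₀
  let E := (SymProd.fibPow f d).basicOpen k
  obtain ⟨g₀, hg₀⟩ : ∃ g₀, (SymProd.fibPow f d).basicOpen g₀ = E := by
    obtain ⟨g₀, hg₀⟩ := hP₀.basicOpen_basicOpen_is_basicOpen h₀
      (((SymProd.fibPow f d).presheaf.map
        (homOfLE (hh₀.trans inf_le_left : (SymProd.fibPow f d).basicOpen h₀ ≤ O)).op).hom k)
    exact ⟨g₀, hg₀.trans (((SymProd.fibPow f d).basicOpen_res _ _).trans (inf_eq_right.mpr hk))⟩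
  have hEσ : ∀ σ ∈ H, E ≤ (SymProd.permHom f d σ) ⁻¹ᵁ E := fun σ hσ x hx =>
    ((mem_basicOpen_pact_iff (hOσ σ hσ) k x).mp (by rw [kinv σ hσ]; exact hx)).2
  let hc := ∏ τ : H, pact f d (q ⁻¹ᵁ W₀) τ.1 (hP₀σ τ.1) g₀
  have hcinv : ∀ σ ∈ H, pact f d (q ⁻¹ᵁ W₀) σ (hP₀σ σ) hc = hc := fun σ hσ => by
    rw [map_prod]
    refine Fintype.prod_equiv (Equiv.mulRight (⟨σ, hσ⟩ : H)) _ _ fun τ => ?_
    exact (pact_mul (hP₀σ τ.1) (hP₀σ σ) (hP₀σ _) g₀).symm
  have hEP : E ≤ q ⁻¹ᵁ W₀ := hg₀ ▸ (SymProd.fibPow f d).basicOpen_le g₀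
  have hEO : E ≤ O := (SymProd.fibPow f d).basicOpen_le k
  have hEhc : E = (SymProd.fibPow f d).basicOpen hc := by
    refine le_antisymm (fun x hx => ?_) (fun x hx => ?_)
    · rw [evaluation_prod_ne_zero _ _ (hEP hx)]
      intro τ _
      rw [mem_basicOpen_pact_iff, hg₀]
      exact ⟨hEP hx, hEσ τ.1 τ.2 hx⟩
    · have hxP := (SymProd.fibPow f d).basicOpen_le _ hx
      have := ((evaluation_prod_ne_zero _ _ hxP).mp hx) ⟨1, H.one_mem⟩ (Finset.mem_univ _)
      rwa [pact_one, hg₀] at this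
  have hzE : z ∈ E := hzk
  have hEgood : E ≤ good := hk.trans (hh₀.trans inf_le_right)
  let P₀ := q ⁻¹ᵁ W₀
  have hP₀V : P₀ ≤ (WidePullback.base (fun _ : Fin d => f)) ⁻¹ᵁ V := fun x hx => by
    show (WidePullback.base (fun _ : Fin d => f)).base x ∈ V
    rw [← base_eq d hq]
    exact hW₀V hx
  have hOV : O ≤ (WidePullback.base (fun _ : Fin d => f)) ⁻¹ᵁ V := chartFam_le_base f _ V
  let sP := ((SymProd.fibPow f d).presheaf.map (homOfLE hEP).op).hom
  let sO := ((SymProd.fibPow f d).presheaf.map (homOfLE hEO).op).hom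
  let bP := ((WidePullback.base (fun _ : Fin d => f)).appLE V P₀ hP₀V).hom
  let bO := ((WidePullback.base (fun _ : Fin d => f)).appLE V O hOV).hom
  let qP := (q.app W₀).hom
  have hqb : ∀ t, qP ((g.appLE V W₀ hW₀V).hom t) = bP t := fun t => by
    show (q.app W₀).hom _ = _
    rw [Scheme.Hom.app_eq_appLE, appLE_comp_apply]
    exact appLE_congr_app hq.over _ _ _ _
  have hsb : ∀ t, sP (bP t) = sO (bO t) := fun t => by
    show ((SymProd.fibPow f d).presheaf.map _).hom ((Scheme.Hom.appLE _ _ _ _).hom t) =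
      ((SymProd.fibPow f d).presheaf.map _).hom ((Scheme.Hom.appLE _ _ _ _).hom t)
    rw [← CommRingCat.comp_apply, ← CommRingCat.comp_apply, Scheme.Hom.appLE_map, Scheme.Hom.appLE_map]
  letI algO : Algebra Γ(SymProd.fibPow f d, O) Γ(SymProd.fibPow f d, E) := sO.toAlgebra
  haveI : IsLocalization.Away k Γ(SymProd.fibPow f d, E) :=
    hO.isLocalization_of_eq_basicOpen k (homOfLE hEO) rfl
  have hqinv : ∀ i σ, pact f d P₀ σ (hP₀σ σ) (qP (x i)) = qP (x i) := fun i σ => by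
    show ((SymProd.permHom f d σ).appLE _ _ _).hom ((q.app W₀).hom (x i)) = (q.app W₀).hom (x i)
    rw [Scheme.Hom.app_eq_appLE, appLE_comp_apply]
    exact appLE_congr_app (hperm σ) _ _ _ _
  have hnum : ∀ i, ∃ (N : ℕ) (e : Γ(SymProd.fibPow f d, O)),
      (∀ σ (h : σ ∈ H), pact f d O σ (hOσ σ h) e = e) ∧ sO e = sP (qP (x i)) * sO k ^ N := fun i => by
    obtain ⟨N, e, he, hee⟩ := exists_invariant_num k (fun σ : H => pact f d O σ.1 (hOσ σ.1 σ.2))
      (fun σ : H => pact f d E σ.1 (hEσ σ.1 σ.2))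
      (fun σ a => res_pact hEO (hOσ σ.1 σ.2) (hEσ σ.1 σ.2) a) (fun σ => kinv σ.1 σ.2)
      (e := sP (qP (x i))) (fun σ => by
        rw [← res_pact hEP (hP₀σ σ.1) (hEσ σ.1 σ.2)]
        exact congrArg sP (hqinv i σ.1))
    exact ⟨N, e, fun σ h => he ⟨σ, h⟩, hee⟩
  choose N e heinv hee using hnum
  let N₀ := ∑ i, N i
  have hex' : ∀ i, ∃ e₁ : Γ(SymProd.fibPow f d, O),
      (∀ σ (h : σ ∈ H), pact f d O σ (hOσ σ h) e₁ = e₁) ∧ sO e₁ = sP (qP (x i)) * sO k ^ N₀ := fun i => by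
    have hle : N i ≤ N₀ := Finset.single_le_sum (fun j _ => Nat.zero_le (N j)) (Finset.mem_univ i)
    refine ⟨k ^ (N₀ - N i) * e i, fun σ h => by rw [map_mul, map_pow, kinv σ h, heinv i σ h], ?_⟩
    rw [map_mul, map_pow, hee, mul_left_comm, ← pow_add, Nat.sub_add_cancel hle]
  choose e' he'inv he' using hex'
  obtain ⟨M, hM⟩ := exists_pow_mul_eq k (A' := Γ(SymProd.fibPow f d, E))
    (x := ∑ i, bO (r i) * e' i) (y := 0) (by
      show sO _ = sO 0
      rw [map_sum, map_zero]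
      calc ∑ i, sO (bO (r i) * e' i)
          = sP (qP (∑ i, (g.appLE V W₀ hW₀V).hom (r i) * x i)) * sO k ^ N₀ := by
            rw [map_sum, map_sum, Finset.sum_mul]
            refine Finset.sum_congr rfl fun i _ => ?_
            rw [map_mul, map_mul, map_mul, he', hqb, hsb, mul_assoc]
        _ = 0 := by rw [h0, map_zero, map_zero, zero_mul])
  rw [mul_zero, Finset.mul_sum] at hM
  obtain ⟨n, c, y, hyinv, hxy, hrc⟩ := isTrivialRelation_chart ℓ hU hV hUV (O := O) rfl hOV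
    (fun σ hσ => hOσ σ hσ) r (fun i => k ^ M * e' i)
    (fun i σ hσ => by rw [map_mul, map_pow, kinv σ hσ, he'inv i σ hσ])
    (by rw [← hM]; exact Finset.sum_congr rfl fun i _ => mul_left_comm _ _ _)
  obtain ⟨kb, hkb⟩ := isUnit_iff_exists_inv.mp
    (IsLocalization.Away.algebraMap_isUnit (S := Γ(SymProd.fibPow f d, E)) k)
  have hkbinv : ∀ σ (hσ : σ ∈ H), pact f d E σ (hEσ σ hσ) kb = kb := fun σ hσ => by
    have hk' : pact f d E σ (hEσ σ hσ) (sO k) = sO k := by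
      rw [← res_pact hEO (hOσ σ hσ) (hEσ σ hσ), kinv σ hσ]
    have h1 : sO k * pact f d E σ (hEσ σ hσ) kb = 1 := by
      have := congrArg (pact f d E σ (hEσ σ hσ)) (show sO k * kb = 1 from hkb)
      rwa [map_mul, hk', map_one] at this
    calc pact f d E σ (hEσ σ hσ) kb = (sO k * kb) * pact f d E σ (hEσ σ hσ) kb := by
          rw [show sO k * kb = 1 from hkb, one_mul]
      _ = kb * (sO k * pact f d E σ (hEσ σ hσ) kb) := by ring
      _ = kb := by rw [h1, mul_one]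
  letI algP : Algebra Γ(SymProd.fibPow f d, P₀) Γ(SymProd.fibPow f d, E) := sP.toAlgebra
  haveI : IsLocalization.Away hc Γ(SymProd.fibPow f d, E) :=
    hP₀.isLocalization_of_eq_basicOpen hc (homOfLE hEP) hEhc
  have hnumC : ∀ j, ∃ (K : ℕ) (a : Γ(SymProd.fibPow f d, P₀)),
      (∀ σ ∈ H, pact f d P₀ σ (hP₀σ σ) a = a) ∧ sP a = sO (y j) * kb ^ (M + N₀) * sP hc ^ K := fun j => by
    obtain ⟨K, a, ha, hae⟩ := exists_invariant_num hc (fun σ : H => pact f d P₀ σ.1 (hP₀σ σ.1))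
      (fun σ : H => pact f d E σ.1 (hEσ σ.1 σ.2))
      (fun σ a => res_pact hEP (hP₀σ σ.1) (hEσ σ.1 σ.2) a) (fun σ => hcinv σ.1 σ.2)
      (e := sO (y j) * kb ^ (M + N₀)) (fun σ => by
        rw [map_mul, map_pow, hkbinv σ.1 σ.2, ← res_pact hEO (hOσ σ.1 σ.2) (hEσ σ.1 σ.2),
          hyinv j σ.1 σ.2])
    exact ⟨K, a, fun σ h => ha ⟨σ, h⟩, hae⟩
  choose K y' hy'inv hy'e using hnumC
  let K₀ := ∑ j, K j
  have hexY : ∀ j, ∃ b : Γ(SymProd.fibPow f d, P₀), (∀ σ ∈ H, pact f d P₀ σ (hP₀σ σ) b = b) ∧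
      sP b = sO (y j) * kb ^ (M + N₀) * sP hc ^ K₀ := fun j => by
    have hle : K j ≤ K₀ := Finset.single_le_sum (fun i _ => Nat.zero_le (K i)) (Finset.mem_univ j)
    refine ⟨hc ^ (K₀ - K j) * y' j, fun σ hσ => by rw [map_mul, map_pow, hcinv σ hσ, hy'inv j σ hσ], ?_⟩
    rw [map_mul, map_pow, hy'e, mul_left_comm, ← pow_add, Nat.sub_add_cancel hle]
  choose Y' hY'inv hY' using hexY
  have hrel : ∀ i, ∃ K' : ℕ, hc ^ K' * (hc ^ K₀ * qP (x i)) = hc ^ K' * ∑ j, bP (c i j) * Y' j :=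
    fun i => exists_pow_mul_eq hc (A' := Γ(SymProd.fibPow f d, E)) (by
      show sP _ = sP _
      have h2 : sO (k ^ M * e' i) * kb ^ (M + N₀) = sP (qP (x i)) := by
        rw [map_mul, map_pow, he', mul_left_comm, ← pow_add, mul_assoc, ← mul_pow,
          show sO k * kb = 1 from hkb, one_pow, mul_one]
      rw [map_mul, map_pow, map_sum, ← h2, hxy i, map_sum, Finset.sum_mul, Finset.mul_sum]
      refine Finset.sum_congr rfl fun j _ => ?_
      rw [map_mul, map_mul, hsb, hY']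
      ring)
  choose K' hK' using hrel
  let N₁ := (∑ i, K' i) + K₀ + 1
  have hrel' : ∀ i, hc ^ N₁ * qP (x i) = ∑ j, bP (c i j) * (hc ^ ((∑ i, K' i) + 1) * Y' j) := fun i => by
    obtain ⟨m, hm⟩ := Nat.exists_eq_add_of_le
      (Finset.single_le_sum (fun j _ => Nat.zero_le (K' j)) (Finset.mem_univ i))
    calc hc ^ N₁ * qP (x i) = hc ^ (m + 1) * (hc ^ K' i * (hc ^ K₀ * qP (x i))) := by
          simp only [N₁, hm]; ring
      _ = hc ^ (m + 1) * (hc ^ K' i * ∑ j, bP (c i j) * Y' j) := by rw [hK']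
      _ = _ := by
          rw [Finset.mul_sum, Finset.mul_sum]
          refine Finset.sum_congr rfl fun j _ => ?_
          rw [hm]; ring
  obtain ⟨rp, r1, rm, rr⟩ := exists_reps H
  let R := Finset.univ.image rp
  have htr : ∀ a, (∀ σ ∈ H, pact f d P₀ σ (hP₀σ σ) a = a) →
      (∑ ρ ∈ R, pact f d P₀ ρ (hP₀σ ρ) a) ∈ Set.range qP := by
    intro a ha
    show _ ∈ Set.range (q.app W₀).hom
    rw [hq.isQuot.range_iff]
    intro σ
    refine (appLE_congr_app (SymProd.permActU_hom f d σ) _ _ _ _).trans ?_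
    exact trace_inv H rm rr (fun ρ => (pact f d P₀ ρ (hP₀σ ρ)).toAddMonoidHom)
      (fun σ τ x => pact_mul (hP₀σ σ) (hP₀σ τ) (hP₀σ _) x) ha σ.down
  obtain ⟨a, ha⟩ := htr (hc ^ N₁) (fun σ hσ => by rw [map_pow, hcinv σ hσ])
  choose Yq hYq using fun j => htr (hc ^ ((∑ i, K' i) + 1) * Y' j) (fun σ hσ => by
    rw [map_mul, map_pow, hcinv σ hσ, hY'inv j σ hσ])
  refine ⟨a, n, c, Yq, ?_, fun i => hq.isQuot.injective W₀ ?_, hrc⟩
  · have hne : z ∈ (SymProd.fibPow f d).basicOpen ((q.app W₀).hom a) := by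
      rw [ha, ← Scheme.evaluation_ne_zero_iff_mem_basicOpen _ z hz, map_sum,
        Finset.sum_eq_single (1 : Equiv.Perm (Fin d))]
      · rw [pact_one, map_pow]
        exact pow_ne_zero _ ((Scheme.evaluation_ne_zero_iff_mem_basicOpen _ z hz hc).mpr (hEhc ▸ hzE))
      · intro ρ hρ hne
        have hρH : ρ ∉ H := fun hh => hne (eq_one_of_mem_image H r1 rr rm hρ hh)
        rw [map_pow, map_pow, (Scheme.evaluation_eq_zero_iff_notMem_basicOpen _ z hz _).mpr
          (fun hmem => ?_), zero_pow (Nat.succ_ne_zero _)]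
        have := ((mem_basicOpen_pact_iff (hP₀σ ρ) hc z).mp hmem).2
        rw [← hEhc] at this
        exact hEgood this (Set.mem_iUnion₂.mpr ⟨ρ, hρH, subset_closure rfl⟩)
      · exact fun hne => absurd (Finset.mem_image.mpr ⟨1, Finset.mem_univ _, r1⟩) hne
    rwa [← Scheme.preimage_basicOpen] at hne
  · show qP (a * x i) = qP (∑ j, (g.appLE V W₀ hW₀V).hom (c i j) * Yq j)
    rw [map_mul, map_sum, ha, Finset.sum_mul]
    calc ∑ ρ ∈ R, pact f d P₀ ρ (hP₀σ ρ) (hc ^ N₁) * qP (x i)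
        = ∑ ρ ∈ R, pact f d P₀ ρ (hP₀σ ρ) (hc ^ N₁ * qP (x i)) :=
          Finset.sum_congr rfl fun ρ _ => by rw [map_mul, hqinv]
      _ = ∑ ρ ∈ R, ∑ j, bP (c i j) * pact f d P₀ ρ (hP₀σ ρ) (hc ^ ((∑ i, K' i) + 1) * Y' j) :=
          Finset.sum_congr rfl fun ρ _ => by
            rw [hrel', map_sum]
            exact Finset.sum_congr rfl fun j _ => by rw [map_mul, pact_base hP₀V (hP₀σ ρ)]
      _ = ∑ j, qP ((g.appLE V W₀ hW₀V).hom (c i j) * Yq j) := by
          rw [Finset.sum_comm]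
          exact Finset.sum_congr rfl fun j _ => by rw [map_mul, hqb, hYq, Finset.mul_sum]

/-- The symmetric product of a flat morphism is flat on affine opens. -/
theorem flat_symProd_sections [Flat f] (hq : SymProd.IsSymProd f d q g) {W₀ : Y.Opens}
    (hW₀ : IsAffineOpen W₀) {V : S.Opens} (hV : IsAffineOpen V) (hW₀V : W₀ ≤ g ⁻¹ᵁ V) :
    letI := (g.appLE V W₀ hW₀V).hom.toAlgebra
    Module.Flat Γ(S, V) Γ(Y, W₀) := by
  classical
  letI := (g.appLE V W₀ hW₀V).hom.toAlgebra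
  refine Module.Flat.of_forall_isTrivialRelation fun {l r x} h0 => ?_
  have h0' : ∑ i, (g.appLE V W₀ hW₀V).hom (r i) * x i = 0 := by
    simpa only [Algebra.smul_def] using! h0
  let A : Set Γ(Y, W₀) := {a | ∃ (n : ℕ) (c : Fin l → Fin n → Γ(S, V)) (y : Fin n → Γ(Y, W₀)),
    (∀ i, a * x i = ∑ j, (g.appLE V W₀ hW₀V).hom (c i j) * y j) ∧ ∀ j, ∑ i, r i * c i j = 0}
  have htop : Ideal.span A = ⊤ := by
    rw [← hW₀.self_le_iSup_basicOpen_iff]
    intro y hy
    obtain ⟨z, rfl⟩ := SGA1Quot21.surjective hq.isQuot y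
    obtain ⟨a, n, c, y, hza, h1, h2⟩ := exists_trivialRelation_local hq hW₀ hV hW₀V z hy r x h0'
    exact Opens.mem_iSup.mpr ⟨⟨a, n, c, y, h1, h2⟩, hza⟩
  let I : Ideal Γ(Y, W₀) :=
    { carrier := A
      zero_mem' := ⟨0, fun _ j => j.elim0, fun j => j.elim0, fun i => by simp, fun j => j.elim0⟩
      add_mem' := by
        rintro a b ⟨n, c, y, h1, h2⟩ ⟨n', c', y', h1', h2'⟩
        refine ⟨n + n', fun i => Fin.append (c i) (c' i), Fin.append y y', fun i => ?_, fun j => ?_⟩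
        · rw [add_mul, h1, h1', Fin.sum_univ_add]
          simp
        · induction j using Fin.addCases with
          | left j => simpa using h2 j
          | right j => simpa using h2' j
      smul_mem' := by
        rintro b a ⟨n, c, y, h1, h2⟩
        refine ⟨n, c, fun j => b * y j, fun i => ?_, h2⟩
        rw [smul_eq_mul, mul_assoc, h1, Finset.mul_sum]
        exact Finset.sum_congr rfl fun j _ => mul_left_comm _ _ _ }
  have hI : (1 : Γ(Y, W₀)) ∈ I := (Ideal.span_le.mpr fun a ha => ha) (htop ▸ Submodule.mem_top)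
  obtain ⟨n, c, y, h1, h2⟩ := hI
  refine ⟨n, c, y, fun i => ?_, h2⟩
  rw [← one_mul (x i), h1]
  simp only [Algebra.smul_def]
  rfl

end GrothLib.SymCmp4
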