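import Groth.Agent.Lib.SymCmp4.Main
import Mathlib.LinearAlgebra.TensorProduct.Tower

/-!
Isomorphism criteria for the comparison morphism of symmetric products in characteristic zero.
-/

universe u

open CategoryTheory CategoryTheory.Limits AlgebraicGeometry TopologicalSpace TensorProduct

set_option maxHeartbeats 800000

namespace GrothLib.SymCmp4

open SymAF26

theorem isIso_of_cover {W T : Scheme.{u}} (n : W ⟶ T) [IsClosedImmersion n]
    (H : ∀ t : T, ∃ U : T.Opens, t ∈ U ∧ IsAffineOpen U ∧ Function.Injective (n.app U).hom) :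
    IsIso n := by
  choose U ht hU hs using H
  refine IsZariskiLocalAtTarget.of_iSup_eq_top (P := MorphismProperty.isomorphisms Scheme) U
    (top_le_iff.mp fun t _ => Opens.mem_iSup.mpr ⟨t, ht t⟩) fun t => ?_
  haveI : IsAffine (U t).toScheme := hU t
  haveI : IsClosedImmersion (n ∣_ U t) := IsZariskiLocalAtTarget.restrict ‹IsClosedImmersion n› _
  refine IsClosedImmersion.isIso_of_injective_of_isAffine ?_
  have key : ∀ U' : T.Opens, U' = U t → Function.Injective (n.app U').hom := fun U' e => e ▸ hs t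
  rw [morphismRestrict_appTop]
  exact (ConcreteCategory.bijective_of_isIso (C := CommRingCat)
    (W.presheaf.map (eqToHom (image_morphismRestrict_preimage n (U t) ⊤)).op)).1.comp
      (key _ (Scheme.Opens.ι_image_top _))

variable {X S S' Y : Scheme.{u}} {f : X ⟶ S} {gS : S' ⟶ S} {d : ℕ}
  {q : SymProd.fibPow f d ⟶ Y} {g : Y ⟶ S}

/-- In characteristic zero sections of the base changed symmetric product inject into sections of the
base changed fibre power. -/
theorem injective_map_appLE (hq : SymProd.IsSymProd f d q g) {W₀ : Y.Opens} (hW₀ : IsAffineOpen W₀)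
    {V : S.Opens} (hV : IsAffineOpen V) (hW₀V : W₀ ≤ g ⁻¹ᵁ V) {V' : S'.Opens} (hV' : IsAffineOpen V')
    (hV'V : V' ≤ gS ⁻¹ᵁ V) (hh : ∀ n : ℕ, 0 < n → IsUnit ((n : ℕ) : Γ(S', ⊤)))
    (M : pullback (WidePullback.base (fun _ : Fin d => f)) gS ⟶ pullback g gS)
    (hM₁ : M ≫ pullback.fst g gS = pullback.fst _ gS ≫ q) (hM₂ : M ≫ pullback.snd g gS = pullback.snd _ gS)
    (hle : pullback.fst (WidePullback.base (fun _ : Fin d => f)) gS ⁻¹ᵁ (q ⁻¹ᵁ W₀) ⊓
        pullback.snd (WidePullback.base (fun _ : Fin d => f)) gS ⁻¹ᵁ V' ≤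
      M ⁻¹ᵁ (pullback.fst g gS ⁻¹ᵁ W₀ ⊓ pullback.snd g gS ⁻¹ᵁ V')) :
    Function.Injective (M.appLE _ _ hle).hom := by
  classical
  let b₀ := WidePullback.base (fun _ : Fin d => f)
  let P₀ := q ⁻¹ᵁ W₀
  let Ω := pullback.fst g gS ⁻¹ᵁ W₀ ⊓ pullback.snd g gS ⁻¹ᵁ V'
  let Q₁ := pullback.fst b₀ gS ⁻¹ᵁ P₀ ⊓ pullback.snd b₀ gS ⁻¹ᵁ V'
  haveI := hq.isQuot.affine
  have hP₀ : IsAffineOpen P₀ := hW₀.preimage q
  have hP₀V : P₀ ≤ b₀ ⁻¹ᵁ V := fun x hx => by
    show b₀.base x ∈ V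
    rw [← base_eq d hq]
    exact hW₀V hx
  have hperm : ∀ σ, SymProd.permHom f d σ ≫ q = q := fun σ => by
    have := hq.isQuot.inv (ULift.up σ)
    rwa [SymProd.permActU_hom] at this
  have hP₀σ : ∀ σ, P₀ ≤ (SymProd.permHom f d σ) ⁻¹ᵁ P₀ := fun σ => by
    rw [← Scheme.Hom.comp_preimage, hperm]
  letI aA : Algebra Γ(S, V) Γ(Y, W₀) := (g.appLE V W₀ hW₀V).hom.toAlgebra
  letI aC : Algebra Γ(S, V) Γ(SymProd.fibPow f d, P₀) := (b₀.appLE V P₀ hP₀V).hom.toAlgebra
  letI aB : Algebra Γ(S, V) Γ(S', V') := (gS.appLE V V' hV'V).hom.toAlgebra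
  letI := ((pullback.fst g gS).appLE W₀ Ω inf_le_left).hom.toAlgebra
  letI := ((pullback.snd g gS).appLE V' Ω inf_le_right).hom.toAlgebra
  letI := (g.appLE V W₀ hW₀V ≫ (pullback.fst g gS).appLE W₀ Ω inf_le_left).hom.toAlgebra
  have hpo := (isIso_pushoutSection_iff (IsPullback.of_hasPullback g gS) hV'V hW₀V (UY := Ω) rfl).1
    (isIso_pushoutSection_of_isAffineOpen (IsPullback.of_hasPullback g gS) hV'V hW₀V rfl hV hV' hW₀)
  haveI : IsScalarTower Γ(S, V) Γ(Y, W₀) Γ(pullback g gS, Ω) := .of_algebraMap_eq' rfl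
  haveI : IsScalarTower Γ(S, V) Γ(S', V') Γ(pullback g gS, Ω) :=
    .of_algebraMap_eq' (congrArg CommRingCat.Hom.hom hpo.w)
  haveI : Algebra.IsPushout Γ(S, V) Γ(Y, W₀) Γ(S', V') Γ(pullback g gS, Ω) :=
    CommRingCat.isPushout_iff_isPushout.1 hpo
  letI := ((pullback.fst b₀ gS).appLE P₀ Q₁ inf_le_left).hom.toAlgebra
  letI := ((pullback.snd b₀ gS).appLE V' Q₁ inf_le_right).hom.toAlgebra
  letI := (b₀.appLE V P₀ hP₀V ≫ (pullback.fst b₀ gS).appLE P₀ Q₁ inf_le_left).hom.toAlgebra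
  have hpo' := (isIso_pushoutSection_iff (IsPullback.of_hasPullback b₀ gS) hV'V hP₀V (UY := Q₁) rfl).1
    (isIso_pushoutSection_of_isAffineOpen (IsPullback.of_hasPullback b₀ gS) hV'V hP₀V rfl hV hV' hP₀)
  haveI : IsScalarTower Γ(S, V) Γ(SymProd.fibPow f d, P₀) Γ(pullback b₀ gS, Q₁) := .of_algebraMap_eq' rfl
  haveI : IsScalarTower Γ(S, V) Γ(S', V') Γ(pullback b₀ gS, Q₁) :=
    .of_algebraMap_eq' (congrArg CommRingCat.Hom.hom hpo'.w)
  haveI : Algebra.IsPushout Γ(S, V) Γ(SymProd.fibPow f d, P₀) Γ(S', V') Γ(pullback b₀ gS, Q₁) :=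
    CommRingCat.isPushout_iff_isPushout.1 hpo'
  let ι : Γ(Y, W₀) →ₗ[Γ(S, V)] Γ(SymProd.fibPow f d, P₀) :=
    { toFun := fun a => (q.app W₀).hom a
      map_add' := map_add _
      map_smul' := fun r a => by
        simp only [Algebra.smul_def, map_mul, RingHom.id_apply]
        congr 1
        show (q.app W₀).hom ((g.appLE V W₀ hW₀V).hom r) = (b₀.appLE V P₀ hP₀V).hom r
        rw [Scheme.Hom.app_eq_appLE, appLE_comp_apply]
        exact appLE_congr_app hq.over _ _ _ _ }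
  have hmem : ∀ x, ∑ σ, pact f d P₀ σ (hP₀σ σ) x ∈ Set.range ι := fun x => by
    show _ ∈ Set.range (q.app W₀).hom
    rw [hq.isQuot.range_iff]
    intro σ
    refine (appLE_congr_app (SymProd.permActU_hom f d σ) _ _ _ _).trans ?_
    show pact f d P₀ σ.down (hP₀σ σ.down) _ = _
    rw [map_sum]
    refine Fintype.sum_equiv (Equiv.mulRight σ.down) _ _ fun τ => ?_
    exact (pact_mul (hP₀σ τ) (hP₀σ σ.down) (hP₀σ _) x).symm
  choose tr htr using hmem
  have hιinj : Function.Injective ι := hq.isQuot.injective W₀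
  let trL : Γ(SymProd.fibPow f d, P₀) →ₗ[Γ(S, V)] Γ(Y, W₀) :=
    { toFun := tr
      map_add' := fun x y => hιinj (by rw [map_add, htr, htr, htr, ← Finset.sum_add_distrib]; simp)
      map_smul' := fun r x => hιinj (by
        rw [RingHom.id_apply, map_smul, htr, htr, Finset.smul_sum]
        refine Finset.sum_congr rfl fun σ _ => ?_
        rw [Algebra.smul_def, map_mul, Algebra.smul_def]
        congr 1
        exact pact_base hP₀V (hP₀σ σ) r) }
  let N := Fintype.card (Equiv.Perm (Fin d))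
  have htrι : trL ∘ₗ ι = N • LinearMap.id := LinearMap.ext fun a => hιinj (by
    show ι (tr (ι a)) = _
    rw [htr, LinearMap.smul_apply, LinearMap.id_apply, map_nsmul]
    show _ = (Finset.univ : Finset (Equiv.Perm (Fin d))).card • ι a
    rw [← Finset.sum_const]
    refine Finset.sum_congr rfl fun σ _ => ?_
    show pact f d P₀ σ (hP₀σ σ) ((q.app W₀).hom a) = (q.app W₀).hom a
    rw [pact, Scheme.Hom.app_eq_appLE, appLE_comp_apply]
    exact appLE_congr_app (hperm σ) _ _ _ _)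
  let e₁ := Algebra.IsPushout.equiv Γ(S, V) Γ(Y, W₀) Γ(S', V') Γ(pullback g gS, Ω)
  let e₂ := Algebra.IsPushout.equiv Γ(S, V) Γ(SymProd.fibPow f d, P₀) Γ(S', V') Γ(pullback b₀ gS, Q₁)
  have hM : ∀ z, (M.appLE Ω Q₁ hle).hom (e₁ z) = e₂ (ι.rTensor Γ(S', V') z) := fun z => by
    induction z using TensorProduct.induction_on with
    | zero => simp
    | add a b ha hb => simp only [map_add, ha, hb]
    | tmul a b =>
      rw [LinearMap.rTensor_tmul, Algebra.IsPushout.equiv_tmul, Algebra.IsPushout.equiv_tmul, map_mul]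
      congr 1
      · show (M.appLE Ω Q₁ hle).hom (((pullback.fst g gS).appLE W₀ Ω inf_le_left).hom a) =
          ((pullback.fst b₀ gS).appLE P₀ Q₁ inf_le_left).hom ((q.app W₀).hom a)
        rw [Scheme.Hom.app_eq_appLE, appLE_comp_apply, appLE_comp_apply]
        exact appLE_congr_app hM₁ _ _ _ _
      · show (M.appLE Ω Q₁ hle).hom (((pullback.snd g gS).appLE V' Ω inf_le_right).hom b) =
          ((pullback.snd b₀ gS).appLE V' Q₁ inf_le_right).hom b
        rw [appLE_comp_apply]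
        exact appLE_congr_app hM₂ _ _ _ _
  obtain ⟨u, hu⟩ : ∃ u, (N : Γ(S', V')) * u = 1 := isUnit_iff_exists_inv.mp (by
    have := (hh N Fintype.card_pos).map (S'.presheaf.map (homOfLE (le_top : V' ≤ ⊤)).op).hom
    rwa [map_natCast] at this)
  refine (injective_iff_map_eq_zero _).mpr fun x hx => ?_
  obtain ⟨z, rfl⟩ := e₁.surjective x
  rw [hM] at hx
  have h0 : (trL ∘ₗ ι).rTensor Γ(S', V') z = 0 := by
    rw [LinearMap.rTensor_comp, LinearMap.comp_apply,
      show ι.rTensor Γ(S', V') z = 0 from e₂.injective (hx.trans (map_zero e₂).symm), map_zero]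
  have hz : (LinearMap.mulLeft Γ(S, V) u).lTensor Γ(Y, W₀) ((trL ∘ₗ ι).rTensor Γ(S', V') z) = z := by
    rw [htrι]
    clear h0 hx
    induction z using TensorProduct.induction_on with
    | zero => simp
    | add a b ha hb => simp only [map_add, ha, hb]
    | tmul a b =>
      rw [LinearMap.rTensor_tmul, LinearMap.lTensor_tmul, LinearMap.smul_apply, LinearMap.id_apply,
        TensorProduct.smul_tmul, LinearMap.mulLeft_apply]
      congr 1
      rw [nsmul_eq_mul, ← mul_assoc, hu, one_mul]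
  rw [h0, map_zero] at hz
  rw [← hz, map_zero]

end GrothLib.SymCmp4
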