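import Groth.Agent.Lib.SymCmp4.ChartInv

/-!
Around each point of a symmetric product, invariant sections after a flat change of base are combinations
of pulled back invariant sections.
-/

universe u

open CategoryTheory CategoryTheory.Limits AlgebraicGeometry TopologicalSpace

set_option maxHeartbeats 1600000

namespace GrothLib.SymCmp4

open SymAF26

theorem evaluation_prod_ne_zero {X : Scheme.{u}} {U : X.Opens} {ι : Type*} (s : Finset ι)
    (f : ι → Γ(X, U)) {x : X} (hx : x ∈ U) :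
    x ∈ X.basicOpen (∏ i ∈ s, f i) ↔ ∀ i ∈ s, x ∈ X.basicOpen (f i) := by
  simp only [← X.evaluation_ne_zero_iff_mem_basicOpen x hx, map_prod, Finset.prod_ne_zero_iff]

/-- An affine open around an orbit of a subgroup, inside an open avoiding the other translates, contains
the basic open of an invariant section. -/
theorem exists_invariant_basicOpen {X S : Scheme.{u}} {f : X ⟶ S} {d : ℕ}
    {P₀ : (SymProd.fibPow f d).Opens} (hP₀ : IsAffineOpen P₀) (H : Subgroup (Equiv.Perm (Fin d)))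
    (hσ : ∀ σ ∈ H, P₀ ≤ (SymProd.permHom f d σ) ⁻¹ᵁ P₀) {W : (SymProd.fibPow f d).Opens}
    {z : ↥(SymProd.fibPow f d)} (hzP : ∀ σ ∈ H, (SymProd.permHom f d σ).base z ∈ P₀)
    (hzW : ∀ σ ∈ H, (SymProd.permHom f d σ).base z ∈ W) :
    ∃ a : Γ(SymProd.fibPow f d, P₀), (∀ σ (h : σ ∈ H), pact f d P₀ σ (hσ σ h) a = a) ∧
      z ∈ (SymProd.fibPow f d).basicOpen a ∧ (SymProd.fibPow f d).basicOpen a ≤ W := by
  classical
  obtain ⟨r, hr, hE⟩ := GrothLib.Pushout6.exists_basicOpen_of_finite hP₀ (W := W)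
    (E := Set.range fun σ : H => (SymProd.permHom f d σ.1).base z) (Set.finite_range _)
    (by rintro _ ⟨σ, rfl⟩; exact hzP σ.1 σ.2) (by rintro _ ⟨σ, rfl⟩; exact hzW σ.1 σ.2)
  refine ⟨∏ τ : H, pact f d P₀ τ.1 (hσ τ.1 τ.2) r, fun σ h => ?_, ?_, ?_⟩
  · rw [map_prod]
    refine Fintype.prod_equiv (Equiv.mulRight (⟨σ, h⟩ : H)) _ _ fun τ => ?_
    exact (pact_mul (hσ τ.1 τ.2) (hσ σ h) (hσ _ (H.mul_mem τ.2 h)) r).symm
  · rw [evaluation_prod_ne_zero _ _ (by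
      have := hzP 1 H.one_mem; simpa [SymProd.permHom_one] using this)]
    intro τ _
    rw [mem_basicOpen_pact_iff]
    exact ⟨by have := hzP 1 H.one_mem; simpa [SymProd.permHom_one] using this, hE ⟨τ, rfl⟩⟩
  · intro x hx
    have hxP := (SymProd.fibPow f d).basicOpen_le _ hx
    have := ((evaluation_prod_ne_zero _ _ hxP).mp hx) ⟨1, H.one_mem⟩ (Finset.mem_univ _)
    rw [pact_one] at this
    exact hr this

variable {X S S' Z Y : Scheme.{u}} {f : X ⟶ S} {h : Z ⟶ S'} {c : Z ⟶ X} {gS : S' ⟶ S}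
  (w : c ≫ f = h ≫ gS) {d : ℕ} [IsClosedImmersion (pullback.lift c h w)]
  {q : SymProd.fibPow f d ⟶ Y} {g : Y ⟶ S}

/-- The local statement at a point of the fibre power. -/
theorem exists_local (hq : SymProd.IsSymProd f d q g) {W₀ : Y.Opens} (hW₀ : IsAffineOpen W₀)
    {V : S.Opens} (hV : IsAffineOpen V) (hW₀V : W₀ ≤ g ⁻¹ᵁ V) {V' : S'.Opens} (hV' : IsAffineOpen V')
    (hV'V : V' ≤ gS ⁻¹ᵁ V) {Q : (SymProd.fibPow h d).Opens}
    (hQ : Q = (powMap w d) ⁻¹ᵁ (q ⁻¹ᵁ W₀) ⊓ (WidePullback.base (fun _ : Fin d => h)) ⁻¹ᵁ V')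
    (hle : Q ≤ (powMap w d) ⁻¹ᵁ (q ⁻¹ᵁ W₀)) (hb : Q ≤ (WidePullback.base (fun _ : Fin d => h)) ⁻¹ᵁ V')
    (hQσ : ∀ σ, Q ≤ (SymProd.permHom h d σ) ⁻¹ᵁ Q) (z : ↥(SymProd.fibPow f d)) (hz : q.base z ∈ W₀) :
    ∃ hh : Γ(SymProd.fibPow f d, q ⁻¹ᵁ W₀), z ∈ (SymProd.fibPow f d).basicOpen hh ∧
      IsAffineOpen ((SymProd.fibPow h d).basicOpen
        (((powMap w d).appLE (q ⁻¹ᵁ W₀) Q hle).hom hh)) ∧
      (IsAffineOpen Q → Flat h → ∀ v : Γ(SymProd.fibPow h d, Q), (∀ σ, pact h d Q σ (hQσ σ) v = v) →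
        ∃ a : Γ(Y, W₀), q.base z ∈ Y.basicOpen a ∧
          ((powMap w d).appLE (q ⁻¹ᵁ W₀) Q hle).hom ((q.app W₀).hom a) * v ∈
            mulSpan (((powMap w d).appLE (q ⁻¹ᵁ W₀) Q hle).hom.comp (q.app W₀).hom)
              ((WidePullback.base (fun _ : Fin d => h)).appLE V' Q hb).hom (fun _ => True)) := by
  classical
  have hperm : ∀ σ, SymProd.permHom f d σ ≫ q = q := fun σ => by
    have := hq.isQuot.inv (ULift.up σ)
    rwa [SymProd.permActU_hom] at this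
  have hP₀σ : ∀ σ, q ⁻¹ᵁ W₀ ≤ (SymProd.permHom f d σ) ⁻¹ᵁ (q ⁻¹ᵁ W₀) := fun σ => by
    rw [← Scheme.Hom.comp_preimage, hperm]
  haveI := hq.isQuot.affine
  have hP₀ : IsAffineOpen (q ⁻¹ᵁ W₀) := hW₀.preimage q
  -- the labelling
  let T : Finset X := Finset.univ.image fun k => (WidePullback.π (fun _ : Fin d => f) k).base z
  let L : Type u := {x : X // x ∈ T}
  let ℓ : Fin d → L := fun k =>
    ⟨(WidePullback.π (fun _ : Fin d => f) k).base z, Finset.mem_image_of_mem _ (Finset.mem_univ k)⟩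
  have hfT : ∀ x : L, f.base x.1 ∈ V := fun x => by
    obtain ⟨k, -, hk⟩ := Finset.mem_image.mp x.2
    rw [← hk, f_π, ← base_eq d hq]
    exact hW₀V hz
  have hex : ∀ x : L, ∃ U : X.Opens, IsAffineOpen U ∧ U ≤ f ⁻¹ᵁ V ∧ x.1 ∈ U := fun x => by
    obtain ⟨_, ⟨U, hU, rfl⟩, hxU, hUV⟩ :=
      X.isBasis_affineOpens.exists_subset_of_mem_open (hfT x : x.1 ∈ f ⁻¹ᵁ V) (f ⁻¹ᵁ V).2
    exact ⟨U, hU, hUV, hxU⟩
  choose U hU hUV hxU using hex
  let H : Subgroup (Equiv.Perm (Fin d)) :=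
    { carrier := {σ | ∀ k, ℓ (σ k) = ℓ k}
      one_mem' := fun k => rfl
      mul_mem' := fun {σ τ} hs ht k => (hs (τ k)).trans (ht k)
      inv_mem' := fun {σ} hs k => by simpa using (hs (σ⁻¹ k)).symm }
  have hstab : ∀ σ, (SymProd.permHom f d σ).base z = z → σ ∈ H := fun σ hσ k => by
    refine Subtype.ext ?_
    have := π_perm f d σ z (σ k)
    rw [hσ, Equiv.symm_apply_apply] at this
    exact this
  let O := chartFam f (fun k => U (ℓ k)) V
  have hO : IsAffineOpen O := isAffineOpen_chartFam f (fun k => hU _) hV (fun k => hUV _)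
  have hOσ : ∀ σ ∈ H, O ≤ (SymProd.permHom f d σ) ⁻¹ᵁ O := fun σ hσ =>
    (preimage_chartFam f _ V σ fun k => congrArg U (hσ k)).ge
  have hzO : z ∈ O := (mem_chartFam f z).mpr ⟨by rw [← base_eq d hq]; exact hW₀V hz, fun k => hxU (ℓ k)⟩
  have hzP : ∀ σ, (SymProd.permHom f d σ).base z ∈ q ⁻¹ᵁ W₀ := fun σ => hP₀σ σ hz
  -- avoid the other translates
  let bad : Set ↥(SymProd.fibPow f d) :=
    ⋃ ρ ∈ {ρ : Equiv.Perm (Fin d) | ρ ∉ H}, closure {(SymProd.permHom f d ρ).base z}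
  have hbad : IsClosed bad := (Set.toFinite _).isClosed_biUnion fun _ _ => isClosed_closure
  let good : (SymProd.fibPow f d).Opens := ⟨badᶜ, hbad.isOpen_compl⟩
  have hzgood : ∀ σ ∈ H, (SymProd.permHom f d σ).base z ∈ good := by
    intro σ hσ hmem
    obtain ⟨ρ, hρ, hm⟩ := Set.mem_iUnion₂.mp hmem
    have hsp := (specializes_iff_mem_closure.mpr hm).map
      (Scheme.Hom.continuous (SymProd.permHom f d σ⁻¹))
    have e1 : ∀ a b, (SymProd.permHom f d a).base ((SymProd.permHom f d b).base z) =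
        (SymProd.permHom f d (a * b)).base z := fun a b => by rw [SymProd.permHom_mul]; rfl
    have e2 : (SymProd.permHom f d 1).base z = z := by rw [SymProd.permHom_one]; rfl
    rw [e1, e1, inv_mul_cancel, e2] at hsp
    have := hstab _ (perm_eq_of_specializes hsp)
    exact hρ (by simpa using H.mul_mem hσ this)
  obtain ⟨h₀, h₀inv, hzh₀, hh₀⟩ := exists_invariant_basicOpen hP₀ H (fun σ _ => hP₀σ σ)
    (W := O ⊓ good) (fun σ _ => hzP σ) (fun σ hσ => ⟨hOσ σ hσ hzO, hzgood σ hσ⟩)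
  have hD₀ : ∀ σ ∈ H, (SymProd.permHom f d σ).base z ∈ (SymProd.fibPow f d).basicOpen h₀ :=
    fun σ hσ => ((mem_basicOpen_pact_iff (hP₀σ σ) h₀ z).mp (by rw [h₀inv σ hσ]; exact hzh₀)).2
  obtain ⟨k, kinv, hzk, hk⟩ := exists_invariant_basicOpen hO H hOσ
    (W := (SymProd.fibPow f d).basicOpen h₀) (fun σ hσ => hOσ σ hσ hzO) hD₀
  let E := (SymProd.fibPow f d).basicOpen k
  obtain ⟨g₀, hg₀⟩ : ∃ g₀, (SymProd.fibPow f d).basicOpen g₀ = E := by
    obtain ⟨g₀, hg₀⟩ := hP₀.basicOpen_basicOpen_is_basicOpen h₀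
      (((SymProd.fibPow f d).presheaf.map
        (homOfLE (hh₀.trans inf_le_left : (SymProd.fibPow f d).basicOpen h₀ ≤ O)).op).hom k)
    exact ⟨g₀, hg₀.trans (((SymProd.fibPow f d).basicOpen_res _ _).trans (inf_eq_right.mpr hk))⟩
  have hEσ : ∀ σ ∈ H, E ≤ (SymProd.permHom f d σ) ⁻¹ᵁ E := fun σ hσ x hx =>
    ((mem_basicOpen_pact_iff (hOσ σ hσ) k x).mp (by rw [kinv σ hσ]; exact hx)).2
  let hc := ∏ τ : H, pact f d (q ⁻¹ᵁ W₀) τ.1 (hP₀σ τ.1) g₀
  have hcinv : ∀ σ ∈ H, pact f d (q ⁻¹ᵁ W₀) σ (hP₀σ σ) hc = hc := fun σ hσ => by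
    rw [map_prod]
    refine Fintype.prod_equiv (Equiv.mulRight (⟨σ, hσ⟩ : H)) _ _ fun τ => ?_
    exact (pact_mul (hP₀σ τ.1) (hP₀σ σ) (hP₀σ _) g₀).symm
  have hEP : E ≤ q ⁻¹ᵁ W₀ := hg₀ ▸ (SymProd.fibPow f d).basicOpen_le g₀
  have hEO : E ≤ O := (SymProd.fibPow f d).basicOpen_le k
  have hEhc : E = (SymProd.fibPow f d).basicOpen hc := by
    refine le_antisymm (fun x hx => ?_) (fun x hx => ?_)
    · rw [evaluation_prod_ne_zero _ _ (hEP hx)]
      intro τ _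
      rw [mem_basicOpen_pact_iff, hg₀]
      exact ⟨hEP hx, hEσ τ.1 τ.2 hx⟩
    · have hxP := (SymProd.fibPow f d).basicOpen_le _ hx
      have := ((evaluation_prod_ne_zero _ _ hxP).mp hx) ⟨1, H.one_mem⟩ (Finset.mem_univ _)
      rwa [pact_one, hg₀] at this
  have hzE : z ∈ E := hzk
  have hEgood : E ≤ good := hk.trans (hh₀.trans inf_le_right)
  -- the same on the new base
  let O' := chartFam h (fun k => c ⁻¹ᵁ U (ℓ k) ⊓ h ⁻¹ᵁ V') V'
  have hgen := fun m => gen_affine w (hU m) hV hV' (hUV m) hV'V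
  have hO' : IsAffineOpen O' := isAffineOpen_chartFam h (fun k => (hgen _).1) hV' (fun k => inf_le_right)
  have hO'σ : ∀ σ ∈ H, O' ≤ (SymProd.permHom h d σ) ⁻¹ᵁ O' := fun σ hσ =>
    (preimage_chartFam h _ V' σ fun k => congrArg (fun m => c ⁻¹ᵁ U m ⊓ h ⁻¹ᵁ V') (hσ k)).ge
  have hmemO' : ∀ x, x ∈ O' ↔ (powMap w d).base x ∈ O ∧
      (WidePullback.base (fun _ : Fin d => h)).base x ∈ V' := by
    intro x
    have eπ : ∀ i, (WidePullback.π (fun _ : Fin d => f) i).base ((powMap w d).base x) =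
        c.base ((WidePullback.π (fun _ : Fin d => h) i).base x) := fun i =>
      congrArg (fun m : SymProd.fibPow h d ⟶ X => m.base x) (powMap_π w i)
    have eb : (WidePullback.base (fun _ : Fin d => f)).base ((powMap w d).base x) =
        gS.base ((WidePullback.base (fun _ : Fin d => h)).base x) :=
      congrArg (fun m : SymProd.fibPow h d ⟶ S => m.base x) (powMap_base w)
    rw [mem_chartFam, mem_chartFam, eb]
    simp only [eπ]
    constructor
    · rintro ⟨h1, h2⟩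
      exact ⟨⟨hV'V h1, fun i => (h2 i).1⟩, h1⟩
    · rintro ⟨⟨-, h2⟩, h1⟩
      refine ⟨h1, fun i => ⟨h2 i, ?_⟩⟩
      show h.base ((WidePullback.π (fun _ : Fin d => h) i).base x) ∈ V'
      rw [f_π]; exact h1
  have hO'O : O' ≤ (powMap w d) ⁻¹ᵁ O := fun x hx => ((hmemO' x).mp hx).1
  have hO'V : O' ≤ (WidePullback.base (fun _ : Fin d => h)) ⁻¹ᵁ V' := chartFam_le_base h _ V'
  let αQ := ((powMap w d).appLE (q ⁻¹ᵁ W₀) Q hle).hom
  let αO := ((powMap w d).appLE O O' hO'O).hom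
  let hQc := αQ hc
  let E' := (SymProd.fibPow h d).basicOpen hQc
  have hE'eq : E' = (SymProd.fibPow h d).basicOpen (αO k) := by
    refine Opens.ext (Set.ext fun x => ?_)
    show x ∈ (SymProd.fibPow h d).basicOpen (αQ hc) ↔ x ∈ (SymProd.fibPow h d).basicOpen (αO k)
    rw [Scheme.basicOpen_appLE, Scheme.basicOpen_appLE, ← hEhc]
    constructor
    · rintro ⟨h1, h2⟩
      exact ⟨(hmemO' x).mpr ⟨hEO h2, hb h1⟩, h2⟩
    · rintro ⟨h1, h2⟩
      refine ⟨?_, h2⟩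
      show x ∈ Q
      rw [hQ]
      exact ⟨hEP h2, hO'V h1⟩
  refine ⟨hc, hEhc ▸ hzE, (hE'eq ▸ hO'.basicOpen _ : IsAffineOpen E'), fun hQa hflat v hv => ?_⟩
  have hE'Q : E' ≤ Q := (SymProd.fibPow h d).basicOpen_le _
  have hE'O : E' ≤ O' := hE'eq ▸ (SymProd.fibPow h d).basicOpen_le _
  have hE'E : E' ≤ (powMap w d) ⁻¹ᵁ E := fun x hx => by
    have : x ∈ Q ⊓ (powMap w d) ⁻¹ᵁ (SymProd.fibPow f d).basicOpen hc := by
      rw [← Scheme.basicOpen_appLE]; exact hx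
    rw [← hEhc] at this
    exact this.2
  let αE := ((powMap w d).appLE E E' hE'E).hom
  let rQ := ((SymProd.fibPow h d).presheaf.map (homOfLE hE'Q).op).hom
  let rO := ((SymProd.fibPow h d).presheaf.map (homOfLE hE'O).op).hom
  let sP := ((SymProd.fibPow f d).presheaf.map (homOfLE hEP).op).hom
  let sO := ((SymProd.fibPow f d).presheaf.map (homOfLE hEO).op).hom
  have nQ : ∀ a, rQ (αQ a) = αE (sP a) := fun a => by
    show (((SymProd.fibPow h d).presheaf.map _).hom ((Scheme.Hom.appLE _ _ _ _).hom a)) = _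
    rw [← CommRingCat.comp_apply, ← CommRingCat.comp_apply, Scheme.Hom.appLE_map, Scheme.Hom.map_appLE]
  have nO : ∀ a, rO (αO a) = αE (sO a) := fun a => by
    show (((SymProd.fibPow h d).presheaf.map _).hom ((Scheme.Hom.appLE _ _ _ _).hom a)) = _
    rw [← CommRingCat.comp_apply, ← CommRingCat.comp_apply, Scheme.Hom.appLE_map, Scheme.Hom.map_appLE]
  have hE'σ : ∀ σ ∈ H, E' ≤ (SymProd.permHom h d σ) ⁻¹ᵁ E' := fun σ hσ x hx => by
    have : x ∈ (SymProd.fibPow h d).basicOpen (pact h d Q σ (hQσ σ) hQc) := by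
      simp only [hQc, αQ]
      rw [pact_powMap w hle (hP₀σ σ) (hQσ σ), hcinv σ hσ]
      exact hx
    exact ((mem_basicOpen_pact_iff (hQσ σ) hQc x).mp this).2
  -- numerator on the chart
  letI algO' : Algebra Γ(SymProd.fibPow h d, O') Γ(SymProd.fibPow h d, E') := rO.toAlgebra
  haveI : IsLocalization.Away (αO k) Γ(SymProd.fibPow h d, E') :=
    hO'.isLocalization_of_eq_basicOpen (αO k) (homOfLE hE'O) hE'eq
  obtain ⟨N, x, hxinv, hxe⟩ := exists_invariant_num (αO k)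
    (fun σ : H => pact h d O' σ.1 (hO'σ σ.1 σ.2)) (fun σ : H => pact h d E' σ.1 (hE'σ σ.1 σ.2))
    (fun σ a => res_pact hE'O (hO'σ σ.1 σ.2) (hE'σ σ.1 σ.2) a)
    (fun σ => by simp only [αO]; rw [pact_powMap w hO'O (hOσ σ.1 σ.2), kinv σ.1 σ.2]) (e := rQ v)
    (fun σ => by rw [← res_pact hE'Q (hQσ σ.1) (hE'σ σ.1 σ.2), hv])
  have hxmem := mem_mulSpan_chart w ℓ hU hV hV' hUV hV'V (O := O) rfl (O' := O') rfl hO'O hO'V
    (fun σ hσ => hOσ σ hσ) (fun σ hσ => hO'σ σ hσ) x (fun σ hσ => hxinv ⟨σ, hσ⟩)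
  -- numerators on the base chart
  letI algO : Algebra Γ(SymProd.fibPow f d, O) Γ(SymProd.fibPow f d, E) := sO.toAlgebra
  haveI : IsLocalization.Away k Γ(SymProd.fibPow f d, E) :=
    hO.isLocalization_of_eq_basicOpen k (homOfLE hEO) rfl
  obtain ⟨kb, hkb⟩ := isUnit_iff_exists_inv.mp
    (IsLocalization.Away.algebraMap_isUnit (S := Γ(SymProd.fibPow f d, E)) k)
  let u := αE kb
  have hku : rO (αO k) * u = 1 := by
    rw [nO, ← map_mul]
    exact (congrArg αE hkb).trans (map_one αE)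
  have hkbinv : ∀ σ (hσ : σ ∈ H), pact f d E σ (hEσ σ hσ) kb = kb := fun σ hσ => by
    have hk' : pact f d E σ (hEσ σ hσ) (sO k) = sO k := by
      rw [← res_pact hEO (hOσ σ hσ) (hEσ σ hσ), kinv σ hσ]
    have h1 : sO k * pact f d E σ (hEσ σ hσ) kb = 1 := by
      have := congrArg (pact f d E σ (hEσ σ hσ)) (show sO k * kb = 1 from hkb)
      rwa [map_mul, hk', map_one] at this
    calc pact f d E σ (hEσ σ hσ) kb = (sO k * kb) * pact f d E σ (hEσ σ hσ) kb := by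
          rw [show sO k * kb = 1 from hkb, one_mul]
      _ = kb * (sO k * pact f d E σ (hEσ σ hσ) kb) := by ring
      _ = kb := by rw [h1, mul_one]
  let PC := fun a : Γ(SymProd.fibPow f d, q ⁻¹ᵁ W₀) =>
    ∀ σ ∈ H, pact f d (q ⁻¹ᵁ W₀) σ (hP₀σ σ) a = a
  have hPCmul : ∀ a a', PC a → PC a' → PC (a * a') := fun a a' h1 h2 σ hσ => by
    rw [map_mul, h1 σ hσ, h2 σ hσ]
  have hPCpow : ∀ n : ℕ, PC (hc ^ n) := fun n σ hσ => by rw [map_pow, hcinv σ hσ]
  let βQ := ((WidePullback.base (fun _ : Fin d => h)).appLE V' Q hb).hom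
  let βO := ((WidePullback.base (fun _ : Fin d => h)).appLE V' O' hO'V).hom
  have key : ∀ t ∈ mulSpan αO βO (fun e => ∀ σ hσ, pact f d O σ (hOσ σ hσ) e = e),
      ∃ (M : ℕ) (y : Γ(SymProd.fibPow h d, Q)), y ∈ mulSpan αQ βQ PC ∧
        rQ y = rO t * u ^ N * rQ hQc ^ M := by
    intro t ht
    induction ht using AddSubgroup.closure_induction with
    | mem t ht =>
      obtain ⟨e, b, he, rfl⟩ := ht
      letI algP : Algebra Γ(SymProd.fibPow f d, q ⁻¹ᵁ W₀) Γ(SymProd.fibPow f d, E) := sP.toAlgebra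
      haveI : IsLocalization.Away hc Γ(SymProd.fibPow f d, E) :=
        hP₀.isLocalization_of_eq_basicOpen hc (homOfLE hEP) hEhc
      obtain ⟨M, a, hainv, hae⟩ := exists_invariant_num hc
        (fun σ : H => pact f d (q ⁻¹ᵁ W₀) σ.1 (hP₀σ σ.1))
        (fun σ : H => pact f d E σ.1 (hEσ σ.1 σ.2))
        (fun σ a => res_pact hEP (hP₀σ σ.1) (hEσ σ.1 σ.2) a) (fun σ => hcinv σ.1 σ.2)
        (e := sO e * kb ^ N) (fun σ => by
          rw [map_mul, map_pow, hkbinv σ.1 σ.2, ← res_pact hEO (hOσ σ.1 σ.2) (hEσ σ.1 σ.2), he σ.1 σ.2])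
      refine ⟨M, βQ b * αQ a,
        AddSubgroup.subset_closure ⟨a, b, fun σ hσ => hainv ⟨σ, hσ⟩, rfl⟩, ?_⟩
      have eb : rQ (βQ b) = rO (βO b) := by
        show (((SymProd.fibPow h d).presheaf.map _).hom ((Scheme.Hom.appLE _ _ _ _).hom b)) =
          (((SymProd.fibPow h d).presheaf.map _).hom ((Scheme.Hom.appLE _ _ _ _).hom b))
        rw [← CommRingCat.comp_apply, ← CommRingCat.comp_apply, Scheme.Hom.appLE_map, Scheme.Hom.appLE_map]
      rw [map_mul, map_mul, eb, nQ, show sP a = sO e * kb ^ N * sP hc ^ M from hae, map_mul, map_mul,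
        map_pow, map_pow, ← nQ, ← nO]
      ring
    | zero => exact ⟨0, 0, zero_mem _, by simp⟩
    | neg t _ ht =>
      obtain ⟨M, y, hy, e⟩ := ht
      exact ⟨M, -y, neg_mem hy, by rw [map_neg, e, map_neg]; ring⟩
    | add t t' _ _ ht ht' =>
      obtain ⟨M, y, hy, e⟩ := ht
      obtain ⟨M', y', hy', e'⟩ := ht'
      refine ⟨M + M', αQ (hc ^ M') * y + αQ (hc ^ M) * y', add_mem
        (mul_mem_mulSpan hPCmul (hPCpow M') hy) (mul_mem_mulSpan hPCmul (hPCpow M) hy'), ?_⟩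
      rw [map_add, map_mul, map_mul, map_pow, map_pow, map_pow, map_pow, e, e', map_add]
      ring
  obtain ⟨M, y, hy, hye⟩ := key x hxmem
  have hvy : rQ y = rQ (hQc ^ M * v) := by
    rw [hye, show rO x = rQ v * rO (αO k) ^ N from hxe, mul_assoc (rQ v), ← mul_pow, hku, one_pow,
      mul_one, map_mul, map_pow]
    ring
  letI algQ : Algebra Γ(SymProd.fibPow h d, Q) Γ(SymProd.fibPow h d, E') := rQ.toAlgebra
  haveI : IsLocalization.Away hQc Γ(SymProd.fibPow h d, E') :=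
    hQa.isLocalization_of_eq_basicOpen hQc (homOfLE hE'Q) rfl
  have hQaff : ∃ M' : ℕ, hQc ^ M' * y = hQc ^ M' * (hQc ^ M * v) :=
    exists_pow_mul_eq hQc (A' := Γ(SymProd.fibPow h d, E')) hvy
  obtain ⟨M', hM'⟩ := hQaff
  have hmem : αQ (hc ^ (M' + M + 1)) * v ∈ mulSpan αQ βQ PC := by
    have := mul_mem_mulSpan hPCmul (hPCpow (M' + 1)) hy
    convert this using 1
    rw [map_pow, map_pow, show αQ hc = hQc from rfl, pow_succ' hQc M', mul_assoc, hM']
    ring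
  -- trace
  obtain ⟨r, r1, rm, rr⟩ := exists_reps H
  let R := Finset.univ.image r
  let N₁ := M' + M + 1
  have htr : ∀ a, PC a → (∑ ρ ∈ R, pact f d (q ⁻¹ᵁ W₀) ρ (hP₀σ ρ) a) ∈ Set.range (q.app W₀).hom := by
    intro a ha
    rw [hq.isQuot.range_iff]
    intro σ
    refine (appLE_congr_app (SymProd.permActU_hom f d σ) _ _ _ _).trans ?_
    exact trace_inv H rm rr (fun ρ => (pact f d (q ⁻¹ᵁ W₀) ρ (hP₀σ ρ)).toAddMonoidHom)
      (fun σ τ x => pact_mul (hP₀σ σ) (hP₀σ τ) (hP₀σ _) x) ha σ.down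
  let Tr : Γ(SymProd.fibPow h d, Q) →+ Γ(SymProd.fibPow h d, Q) :=
    ∑ ρ ∈ R, (pact h d Q ρ (hQσ ρ)).toAddMonoidHom
  have hTr : ∀ t, Tr t = ∑ ρ ∈ R, pact h d Q ρ (hQσ ρ) t := fun t => AddMonoidHom.finsetSum_apply _ _ _
  obtain ⟨a, ha⟩ := htr (hc ^ N₁) (hPCpow N₁)
  refine ⟨a, ?_, ?_⟩
  · have hne : z ∈ (SymProd.fibPow f d).basicOpen ((q.app W₀).hom a) := by
      rw [ha, ← Scheme.evaluation_ne_zero_iff_mem_basicOpen _ z hz, map_sum,
        Finset.sum_eq_single (1 : Equiv.Perm (Fin d))]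
      · rw [pact_one, map_pow]
        exact pow_ne_zero _ ((Scheme.evaluation_ne_zero_iff_mem_basicOpen _ z hz hc).mpr (hEhc ▸ hzE))
      · intro ρ hρ hne
        have hρH : ρ ∉ H := fun hh => hne (eq_one_of_mem_image H r1 rr rm hρ hh)
        rw [map_pow, map_pow, (Scheme.evaluation_eq_zero_iff_notMem_basicOpen _ z hz _).mpr
          (fun hmem => ?_), zero_pow (Nat.succ_ne_zero _)]
        have := ((mem_basicOpen_pact_iff (hP₀σ ρ) hc z).mp hmem).2
        rw [← hEhc] at this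
        exact hEgood this (Set.mem_iUnion₂.mpr ⟨ρ, hρH, subset_closure rfl⟩)
      · exact fun hne => absurd (Finset.mem_image.mpr ⟨1, Finset.mem_univ _, r1⟩) hne
    rwa [← Scheme.preimage_basicOpen] at hne
  · have e : αQ ((q.app W₀).hom a) * v = Tr (αQ (hc ^ N₁) * v) := by
      rw [hTr, ha, map_sum, Finset.sum_mul]
      refine Finset.sum_congr rfl fun ρ _ => ?_
      rw [map_mul, hv, pact_powMap w hle (hP₀σ ρ) (hQσ ρ)]
    rw [show ((powMap w d).appLE (q ⁻¹ᵁ W₀) Q hle).hom ((q.app W₀).hom a) * v = _ from e]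
    refine map_mem_mulSpan Tr (fun a b hab => ?_) hmem
    obtain ⟨a', ha'⟩ := htr a hab
    refine AddSubgroup.subset_closure ⟨a', b, trivial, ?_⟩
    rw [hTr, RingHom.comp_apply, ha', map_sum, Finset.mul_sum]
    refine Finset.sum_congr rfl fun ρ _ => ?_
    rw [map_mul, pact_base hb (hQσ ρ), pact_powMap w hle (hP₀σ ρ) (hQσ ρ)]

end GrothLib.SymCmp4
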