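import Groth.Agent.Lib.SymCmp4.Span
import Groth.Agent.Lib.SGA1Quot21.Descend
import Groth.Agent.Lib.SymAF26.BaseChange
import Mathlib.AlgebraicGeometry.ResidueField

/-!
The comparison morphism of symmetric products: residue fields, and closed immersion.
-/

universe u

open CategoryTheory CategoryTheory.Limits AlgebraicGeometry TopologicalSpace

set_option maxHeartbeats 800000

namespace GrothLib.SymCmp4

open SymAF26

theorem evaluation_appLE {P T : Scheme.{u}} (m : P ⟶ T) {Ω : T.Opens} {U : P.Opens}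
    (e : U ≤ m ⁻¹ᵁ Ω) (x : P) (hx : x ∈ U) (a : Γ(T, Ω)) :
    P.evaluation U x hx ((m.appLE Ω U e).hom a) = m.residueFieldMap x (T.evaluation Ω (m x) (e hx) a) := by
  refine Eq.trans ?_ (Scheme.evaluation_naturality_apply m x (e hx) a).symm
  simp only [Scheme.evaluation, Scheme.Hom.appLE, CommRingCat.comp_apply]
  exact congrArg _ (TopCat.Presheaf.germ_res_apply _ _ _ hx _)

theorem residueFieldMap_surjective_of_isPreimmersion {P T : Scheme.{u}} (m : P ⟶ T) [IsPreimmersion m]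
    (x : P) : Function.Surjective (m.residueFieldMap x).hom := by
  intro a
  obtain ⟨b, rfl⟩ := Ideal.Quotient.mk_surjective a
  obtain ⟨c, rfl⟩ := m.stalkMap_surjective x b
  exact ⟨T.residue _ c, congrArg (fun φ => φ.hom c) (Scheme.residue_residueFieldMap (f := m) x)⟩

theorem residueFieldMap_mem_range {P T : Scheme.{u}} {m m' : P ⟶ T} (e : m = m') (x : P)
    (a : T.residueField (m x)) : (m.residueFieldMap x).hom a ∈ Set.range (m'.residueFieldMap x).hom := by
  subst e; exact ⟨a, rfl⟩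

theorem residueFieldMap_comp_mem_range {P T A : Scheme.{u}} (m : P ⟶ T) (p : T ⟶ A) (x : P)
    (a : A.residueField ((m ≫ p) x)) :
    ((m ≫ p).residueFieldMap x).hom a ∈ Set.range (m.residueFieldMap x).hom := by
  rw [Scheme.residueFieldMap_comp]
  exact ⟨_, rfl⟩

/-- Residue field maps are surjective once their range contains the values of all sections on some
affine open. -/
theorem residueFieldMap_surjective_of_evaluation {W T : Scheme.{u}} (n : W ⟶ T) (w₀ : W)
    {U : W.Opens} (hU : IsAffineOpen U) (hw : w₀ ∈ U)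
    (h : ∀ v : Γ(W, U), W.evaluation U w₀ hw v ∈ Set.range (n.residueFieldMap w₀).hom) :
    Function.Surjective (n.residueFieldMap w₀).hom := by
  intro x
  obtain ⟨y, rfl⟩ := Ideal.Quotient.mk_surjective x
  letI := TopCat.Presheaf.algebra_section_stalk W.presheaf (⟨w₀, hw⟩ : U)
  haveI := hU.isLocalization_stalk ⟨w₀, hw⟩
  obtain ⟨⟨v, s⟩, hvs⟩ := IsLocalization.surj (hU.primeIdealOf ⟨w₀, hw⟩).asIdeal.primeCompl y
  obtain ⟨ξ, hξ⟩ := h v
  obtain ⟨η, hη⟩ := h s.1
  have hu : IsUnit ((W.presheaf.germ U w₀ hw).hom s.1) :=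
    IsLocalization.map_units (W.presheaf.stalk w₀) s
  have hne : W.evaluation U w₀ hw s.1 ≠ 0 := (hu.map (W.residue w₀).hom).ne_zero
  have hmul : (W.residue w₀).hom y * W.evaluation U w₀ hw s.1 = W.evaluation U w₀ hw v := by
    show (W.residue w₀).hom y * (W.residue w₀).hom ((W.presheaf.germ U w₀ hw).hom s.1) =
      (W.residue w₀).hom ((W.presheaf.germ U w₀ hw).hom v)
    rw [← map_mul]
    exact congrArg _ hvs
  have hη0 : η ≠ 0 := fun h0 => hne (by rw [← hη, h0, map_zero])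
  refine ⟨ξ * η⁻¹, ?_⟩
  show (n.residueFieldMap w₀).hom _ = (W.residue w₀).hom y
  rw [map_mul, map_inv₀, hξ, hη, ← hmul, mul_assoc, mul_inv_cancel₀ hne, mul_one]

variable {X S S' Z Y W : Scheme.{u}} {f : X ⟶ S} {h : Z ⟶ S'} {c : Z ⟶ X} {gS : S' ⟶ S}
  (w : c ≫ f = h ≫ gS) {d : ℕ} [IsClosedImmersion (pullback.lift c h w)]
  {q : SymProd.fibPow f d ⟶ Y} {g : Y ⟶ S} (hq : SymProd.IsSymProd f d q g)
  {r : SymProd.fibPow h d ⟶ W} (hr : SGA1.IsQuot (SymProd.permActU h d) r)
  {n : W ⟶ pullback g gS} (hn₁ : r ≫ n ≫ pullback.fst g gS = powMap w d ≫ q)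
  (hn₂ : r ≫ n ≫ pullback.snd g gS = WidePullback.base (fun _ : Fin d => h))

omit [IsClosedImmersion (pullback.lift c h w)] in
include hn₁ hn₂ in
theorem preimage_eq_tgt (W₀ : Y.Opens) (V' : S'.Opens) :
    r ⁻¹ᵁ (n ⁻¹ᵁ (pullback.fst g gS ⁻¹ᵁ W₀ ⊓ pullback.snd g gS ⁻¹ᵁ V')) = tgt w q W₀ V' := by
  simp only [Scheme.Hom.preimage_inf, ← Scheme.Hom.comp_preimage, hn₁, hn₂]
  rfl

include hq hr hn₁ hn₂ in
/-- An affine cover of the target adapted to the comparison morphism. -/
theorem exists_chart_target (t : ↥(pullback g gS)) :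
    ∃ (W₀ : Y.Opens) (V : S.Opens) (V' : S'.Opens), IsAffineOpen W₀ ∧ IsAffineOpen V ∧
      IsAffineOpen V' ∧ W₀ ≤ g ⁻¹ᵁ V ∧ V' ≤ gS ⁻¹ᵁ V ∧
      t ∈ pullback.fst g gS ⁻¹ᵁ W₀ ⊓ pullback.snd g gS ⁻¹ᵁ V' ∧
      IsAffineOpen (pullback.fst g gS ⁻¹ᵁ W₀ ⊓ pullback.snd g gS ⁻¹ᵁ V') ∧
      IsAffineOpen (n ⁻¹ᵁ (pullback.fst g gS ⁻¹ᵁ W₀ ⊓ pullback.snd g gS ⁻¹ᵁ V')) := by
  obtain ⟨_, ⟨V, hV, rfl⟩, hyV, -⟩ := S.isBasis_affineOpens.exists_subset_of_mem_open
    (Set.mem_univ (g.base ((pullback.fst g gS).base t))) isOpen_univ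
  obtain ⟨_, ⟨W₀, hW₀, rfl⟩, hy, hW₀V⟩ := Y.isBasis_affineOpens.exists_subset_of_mem_open
    (show (pullback.fst g gS).base t ∈ g ⁻¹ᵁ V from hyV) (g ⁻¹ᵁ V).2
  obtain ⟨_, ⟨V', hV', rfl⟩, hs', hV'V⟩ := S'.isBasis_affineOpens.exists_subset_of_mem_open
    (show (pullback.snd g gS).base t ∈ gS ⁻¹ᵁ V by
      show (pullback.snd g gS ≫ gS).base t ∈ V
      rw [← pullback.condition]; exact hyV) (gS ⁻¹ᵁ V).2
  haveI : IsAffine (Scheme.Opens.toScheme (X := S) V) := hV
  haveI : IsAffine (Scheme.Opens.toScheme (X := S') V') := hV'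
  haveI : IsAffine (Scheme.Opens.toScheme (X := Y) W₀) := hW₀
  refine ⟨W₀, V, V', hW₀, hV, hV', hW₀V, hV'V, ⟨hy, hs'⟩,
    .of_isIso (Scheme.Hom.isPullback_resLE (IsPullback.of_hasPullback g gS) (US := V) (UT := V') (UX := W₀)
      hV'V hW₀V (UY := pullback.fst g gS ⁻¹ᵁ W₀ ⊓ pullback.snd g gS ⁻¹ᵁ V') rfl).isoPullback.hom, ?_⟩
  refine SGA1Quot21.isAffineOpen_of_preimage hr ?_
  rw [preimage_eq_tgt w hn₁ hn₂]
  exact (tgt_affine w hq hW₀ hV hW₀V hV' hV'V).1

include hq hr hn₁ hn₂ in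
/-- In the flat case or in characteristic zero the comparison morphism is a closed immersion. -/
theorem isClosedImmersion_comparison
    (hh : Flat h ∨ ∀ n : ℕ, 0 < n → IsUnit ((n : ℕ) : Γ(S', ⊤))) : IsClosedImmersion n := by
  refine isClosedImmersion_of_cover n fun t => ?_
  obtain ⟨W₀, V, V', hW₀, hV, hV', hW₀V, hV'V, ht, hΩ, hnΩ⟩ := exists_chart_target w hq hr hn₁ hn₂ t
  refine ⟨_, ht, hΩ, hnΩ, fun v => ?_⟩
  let Ω := pullback.fst g gS ⁻¹ᵁ W₀ ⊓ pullback.snd g gS ⁻¹ᵁ V'
  have e := preimage_eq_tgt w hn₁ hn₂ W₀ V'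
  let rv := (r.appLE (n ⁻¹ᵁ Ω) (tgt w q W₀ V') e.ge).hom v
  have hinv : ∀ σ, pact h d _ σ (tgt_perm w hq W₀ V' σ) rv = rv := fun σ => by
    simp only [rv, pact]
    rw [appLE_comp_apply]
    refine appLE_congr_app ?_ _ _ _ _
    have := hr.inv (ULift.up σ)
    rwa [SymProd.permActU_hom] at this
  have hmem := mem_mulSpan_of_invariant w hq hW₀ hV hW₀V hV' hV'V hh rv hinv
  have hrange : rv ∈ Set.range ((r ≫ n).appLE Ω (tgt w q W₀ V') e.ge).hom := by
    refine (AddSubgroup.closure_le (K := ((r ≫ n).appLE Ω (tgt w q W₀ V') e.ge).hom.range.toAddSubgroup)).mpr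
      ?_ hmem
    rintro _ ⟨a, b, -, rfl⟩
    exact Subring.mul_mem _
      (mem_range_appLE_lift (r ≫ n) (pullback.snd g gS) _ (by rw [Category.assoc, hn₂]) inf_le_right _ _ b)
      (mem_range_appLE_lift (r ≫ n) (pullback.fst g gS) _ (by rw [Category.assoc, hn₁]) inf_le_left _ _ a)
  obtain ⟨a, ha⟩ := hrange
  refine ⟨a, hr.injective (n ⁻¹ᵁ Ω) ?_⟩
  have key : ∀ (O : (SymProd.fibPow h d).Opens) (e' : O = r ⁻¹ᵁ (n ⁻¹ᵁ Ω)),
      (r.appLE (n ⁻¹ᵁ Ω) O e'.le).hom ((n.app Ω).hom a) = (r.appLE (n ⁻¹ᵁ Ω) O e'.le).hom v →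
      (r.app (n ⁻¹ᵁ Ω)).hom ((n.app Ω).hom a) = (r.app (n ⁻¹ᵁ Ω)).hom v := by
    rintro _ rfl hh
    rwa [← Scheme.Hom.app_eq_appLE] at hh
  refine key _ e.symm ?_
  show _ = rv
  rw [← ha, Scheme.Hom.app_eq_appLE, appLE_comp_apply]

include hq hr hn₁ hn₂ in
/-- The comparison morphism induces surjections on residue fields. -/
theorem residueFieldMap_surjective_comparison (w₀ : W) :
    Function.Surjective (n.residueFieldMap w₀).hom := by
  obtain ⟨W₀, V, V', hW₀, hV, hV', hW₀V, hV'V, ht, hΩ, hnΩ⟩ :=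
    exists_chart_target w hq hr hn₁ hn₂ (n.base w₀)
  refine residueFieldMap_surjective_of_evaluation n w₀ hnΩ ht fun v => ?_
  obtain ⟨z', rfl⟩ := SGA1Quot21.surjective hr w₀
  obtain ⟨s', hs'⟩ : ∃ s', s' = (WidePullback.base (fun _ : Fin d => h)).base z' := ⟨_, rfl⟩
  let φ := S'.fromSpecResidueField s'
  let c'' := pullback.fst h φ ≫ c
  let h'' := pullback.snd h φ
  let gS'' := φ ≫ gS
  have w'' : c'' ≫ f = h'' ≫ gS'' := by
    simp only [c'', h'', gS'', Category.assoc, w, pullback.condition_assoc]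
  let j := pullback.lift c h w
  let j'' := pullback.lift c'' h'' w''
  let μ : pullback f gS'' ⟶ pullback f gS :=
    pullback.lift (pullback.fst f gS'') (pullback.snd f gS'' ≫ φ) (by
      rw [pullback.condition, Category.assoc])
  have hμ : IsPullback μ (pullback.snd f gS'') (pullback.snd f gS) φ := by
    refine IsPullback.of_right ?_ (pullback.lift_snd _ _ _) (IsPullback.of_hasPullback f gS)
    rw [pullback.lift_fst]
    exact IsPullback.of_hasPullback f gS''
  have hsq : IsPullback (pullback.fst h φ) j'' j μ := by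
    refine IsPullback.of_bot ?_ ?_ hμ
    · rw [pullback.lift_snd, pullback.lift_snd]
      exact IsPullback.of_hasPullback h φ
    · apply pullback.hom_ext
      · simp only [j, j'', μ, c'', Category.assoc, pullback.lift_fst]
      · simp only [j, j'', μ, h'', Category.assoc, pullback.lift_snd, pullback.lift_snd_assoc,
          pullback.condition]
  haveI : IsClosedImmersion j'' := MorphismProperty.of_isPullback hsq ‹IsClosedImmersion j›
  haveI : IsClosedImmersion (pullback.lift c'' h'' w'') := this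
  have hflat : Flat h'' := inferInstance
  let p₃ : SymProd.fibPow h'' d ⟶ SymProd.fibPow h d :=
    powMap (f := h) (h := h'') (c := pullback.fst h φ) (gS := φ) pullback.condition d
  have hp₃ : powMap w'' d = p₃ ≫ powMap w d := by
    apply WidePullback.hom_ext
    · intro i
      rw [powMap_π, Category.assoc, powMap_π, powMap_π_assoc]
    · rw [powMap_base, Category.assoc, powMap_base, powMap_base_assoc]
  -- a point over the given one
  obtain ⟨z'', hz3⟩ : ∃ z'', p₃.base z'' = z' := by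
    subst hs'
    let ξ := (SymProd.fibPow h d).fromSpecResidueField z'
    let ψ : Spec ((SymProd.fibPow h d).residueField z') ⟶
        Spec (S'.residueField ((WidePullback.base (fun _ : Fin d => h)).base z')) :=
      Spec.map ((WidePullback.base (fun _ : Fin d => h)).residueFieldMap z')
    have hψ : ψ ≫ φ = ξ ≫ WidePullback.base (fun _ : Fin d => h) :=
      Scheme.Hom.SpecMap_residueFieldMap_fromSpecResidueField _ _
    let l : Spec ((SymProd.fibPow h d).residueField z') ⟶ SymProd.fibPow h'' d := WidePullback.lift ψ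
      (fun i => pullback.lift (ξ ≫ WidePullback.π (fun _ : Fin d => h) i) ψ
        (by rw [Category.assoc, WidePullback.π_arrow, hψ]))
      (fun i => pullback.lift_snd _ _ _)
    have hl : l ≫ p₃ = ξ := by
      apply WidePullback.hom_ext
      · intro i
        rw [Category.assoc, powMap_π, WidePullback.lift_π_assoc, pullback.lift_fst]
      · rw [Category.assoc, powMap_base, WidePullback.lift_base_assoc, hψ]
    refine ⟨l.base default, ?_⟩
    show (l ≫ p₃).base default = z'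
    rw [hl]
    exact Scheme.fromSpecResidueField_apply _ _
  subst hz3
  let W₁ : W.Opens := n ⁻¹ᵁ (pullback.fst g gS ⁻¹ᵁ W₀ ⊓ pullback.snd g gS ⁻¹ᵁ V')
  let m := p₃ ≫ r
  haveI : Subsingleton ↥(Spec (S'.residueField s')) := inferInstance
  let V'' : (Spec (S'.residueField s')).Opens := ⊤
  have hV'' : V'' ≤ gS'' ⁻¹ᵁ V := fun x _ => by
    show gS.base (φ.base x) ∈ V
    rw [Scheme.fromSpecResidueField_apply]
    apply hV'V
    have := ht.2
    have e2 : (pullback.snd g gS).base (n.base (r.base (p₃.base z''))) = s' :=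
      (congrArg (fun m : SymProd.fibPow h d ⟶ S' => m.base (p₃.base z'')) hn₂).trans hs'.symm
    rwa [← e2]
  let Q'' := tgt w'' q W₀ V''
  have hQm : Q'' ≤ m ⁻¹ᵁ W₁ := by
    intro x hx
    refine ⟨?_, ?_⟩
    · show ((p₃ ≫ r) ≫ n ≫ pullback.fst g gS).base x ∈ W₀
      rw [Category.assoc, hn₁, ← Category.assoc, ← hp₃]
      exact hx.1
    · show ((p₃ ≫ r) ≫ n ≫ pullback.snd g gS).base x ∈ V'
      rw [Category.assoc, hn₂, powMap_base]
      show φ.base _ ∈ V'
      rw [Scheme.fromSpecResidueField_apply]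
      have e2 : (pullback.snd g gS).base (n.base (r.base (p₃.base z''))) = s' :=
        (congrArg (fun m : SymProd.fibPow h d ⟶ S' => m.base (p₃.base z'')) hn₂).trans hs'.symm
      rw [← e2]; exact ht.2
  let v'' := (m.appLE W₁ Q'' hQm).hom v
  have hinv : ∀ σ, pact h'' d Q'' σ (tgt_perm w'' hq W₀ V'' σ) v'' = v'' := fun σ => by
    simp only [v'', pact]
    rw [appLE_comp_apply]
    refine appLE_congr_app ?_ _ _ _ _
    have := hr.inv (ULift.up σ)
    rw [SymProd.permActU_hom] at this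
    show _ ≫ p₃ ≫ r = p₃ ≫ r
    rw [← Category.assoc, perm_powMap, Category.assoc, this]
  have hmem := mem_mulSpan_of_invariant w'' hq hW₀ hV hW₀V (isAffineOpen_top _) hV''
    (Or.inl hflat) v'' hinv
  have hz'' : z'' ∈ Q'' := by
    refine ⟨?_, trivial⟩
    show (powMap w'' d ≫ q).base z'' ∈ W₀
    rw [hp₃, Category.assoc, ← hn₁]
    exact ht.1
  let M := m ≫ n
  have hval : (SymProd.fibPow h'' d).evaluation Q'' z'' hz'' v'' ∈
      (M.residueFieldMap z'').hom.range := by
    refine (AddSubgroup.closure_le (K := ((M.residueFieldMap z'').hom.range.toAddSubgroup).comap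
      ((SymProd.fibPow h'' d).evaluation Q'' z'' hz'').hom.toAddMonoidHom)).mpr ?_ hmem
    rintro _ ⟨a, b, -, rfl⟩
    show ((SymProd.fibPow h'' d).evaluation Q'' z'' hz'').hom (_ * _) ∈ (M.residueFieldMap z'').hom.range
    rw [map_mul]
    refine Subring.mul_mem _ ?_ ?_
    · rw [evaluation_appLE]
      obtain ⟨η, hη⟩ := residueFieldMap_surjective_of_isPreimmersion φ
        ((WidePullback.base (fun _ : Fin d => h'')).base z'')
        ((Spec (S'.residueField s')).evaluation V''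
          ((WidePullback.base (fun _ : Fin d => h'')).base z'') trivial b)
      rw [← hη]
      have e : (WidePullback.base (fun _ : Fin d => h'')) ≫ φ = M ≫ pullback.snd g gS := by
        simp only [M, m, Category.assoc, hn₂]
        exact (powMap_base _).symm
      have h1 := congrArg (fun ψ => ψ.hom η)
        (Scheme.residueFieldMap_comp (WidePullback.base (fun _ : Fin d => h'')) φ z'')
      simp only [CommRingCat.hom_comp, RingHom.comp_apply] at h1
      obtain ⟨η', hη'⟩ := residueFieldMap_mem_range e z'' η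
      obtain ⟨η'', hη''⟩ := residueFieldMap_comp_mem_range M _ z'' η'
      exact ⟨η'', (hη''.trans hη').trans h1⟩
    · have e : powMap w'' d ≫ q = M ≫ pullback.fst g gS := by
        simp only [M, m, Category.assoc, hn₁]
        rw [hp₃, Category.assoc]
      obtain ⟨η', hη'⟩ := residueFieldMap_mem_range e z'' ((Y.evaluation W₀ _ (show (powMap w'' d ≫ q).base z'' ∈ W₀ from hz''.1)) a)
      obtain ⟨η'', hη''⟩ := residueFieldMap_comp_mem_range M _ z'' η'
      exact ⟨η'', (hη''.trans hη').trans (evaluation_appLE (powMap w'' d ≫ q) (U := Q'') (show Q'' ≤ (powMap w'' d ≫ q) ⁻¹ᵁ W₀ from fun y hy => hy.1) z'' hz'' a).symm⟩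
  obtain ⟨η, hη⟩ := hval
  refine ⟨η, (m.residueFieldMap z'').hom.injective ?_⟩
  exact ((congrArg (fun ψ => ψ.hom η) (Scheme.residueFieldMap_comp m n z'')).symm.trans hη).trans
    (evaluation_appLE m hQm z'' hz'' v)

end GrothLib.SymCmp4
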