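import Groth.Agent.Lib.SymCmp4.Iso
import Groth.Agent.Lib.SymCmp4.FlatSym
import Groth.Agent.Lib.SGA1Quot21.BaseChange

/-!
Quotients of products of fibre powers by products of symmetric groups.
-/

universe u

open CategoryTheory CategoryTheory.Limits AlgebraicGeometry TopologicalSpace TensorProduct

set_option maxHeartbeats 800000
set_option backward.isDefEq.respectTransparency false

namespace GrothLib.SymCmp4

open SymAF26

variable {X S S' Y : Scheme.{u}} {f : X ⟶ S} {gS : S' ⟶ S} {d : ℕ}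
  {q : SymProd.fibPow f d ⟶ Y} {g : Y ⟶ S}

/-- For a flat change of base sections of the base changed symmetric product inject into sections of the
base changed fibre power. -/
theorem injective_map_appLE_flat (hq : SymProd.IsSymProd f d q g) {W₀ : Y.Opens} (hW₀ : IsAffineOpen W₀)
    {V : S.Opens} (hV : IsAffineOpen V) (hW₀V : W₀ ≤ g ⁻¹ᵁ V) {V' : S'.Opens} (hV' : IsAffineOpen V')
    (hV'V : V' ≤ gS ⁻¹ᵁ V) (hh : letI := (gS.appLE V V' hV'V).hom.toAlgebra; Module.Flat Γ(S, V) Γ(S', V'))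
    (M : pullback (WidePullback.base (fun _ : Fin d => f)) gS ⟶ pullback g gS)
    (hM₁ : M ≫ pullback.fst g gS = pullback.fst _ gS ≫ q) (hM₂ : M ≫ pullback.snd g gS = pullback.snd _ gS)
    (hle : pullback.fst (WidePullback.base (fun _ : Fin d => f)) gS ⁻¹ᵁ (q ⁻¹ᵁ W₀) ⊓
        pullback.snd (WidePullback.base (fun _ : Fin d => f)) gS ⁻¹ᵁ V' ≤
      M ⁻¹ᵁ (pullback.fst g gS ⁻¹ᵁ W₀ ⊓ pullback.snd g gS ⁻¹ᵁ V')) :
    Function.Injective (M.appLE _ _ hle).hom := by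
  classical
  let b₀ := WidePullback.base (fun _ : Fin d => f)
  let P₀ := q ⁻¹ᵁ W₀
  let Ω := pullback.fst g gS ⁻¹ᵁ W₀ ⊓ pullback.snd g gS ⁻¹ᵁ V'
  let Q₁ := pullback.fst b₀ gS ⁻¹ᵁ P₀ ⊓ pullback.snd b₀ gS ⁻¹ᵁ V'
  haveI := hq.isQuot.affine
  have hP₀ : IsAffineOpen P₀ := hW₀.preimage q
  have hP₀V : P₀ ≤ b₀ ⁻¹ᵁ V := fun x hx => by
    show b₀.base x ∈ V
    rw [← base_eq d hq]
    exact hW₀V hx
  have hperm : ∀ σ, SymProd.permHom f d σ ≫ q = q := fun σ => by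
    have := hq.isQuot.inv (ULift.up σ)
    rwa [SymProd.permActU_hom] at this
  have hP₀σ : ∀ σ, P₀ ≤ (SymProd.permHom f d σ) ⁻¹ᵁ P₀ := fun σ => by
    rw [← Scheme.Hom.comp_preimage, hperm]
  letI aA : Algebra Γ(S, V) Γ(Y, W₀) := (g.appLE V W₀ hW₀V).hom.toAlgebra
  letI aC : Algebra Γ(S, V) Γ(SymProd.fibPow f d, P₀) := (b₀.appLE V P₀ hP₀V).hom.toAlgebra
  letI aB : Algebra Γ(S, V) Γ(S', V') := (gS.appLE V V' hV'V).hom.toAlgebra
  letI := ((pullback.fst g gS).appLE W₀ Ω inf_le_left).hom.toAlgebra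
  letI := ((pullback.snd g gS).appLE V' Ω inf_le_right).hom.toAlgebra
  letI := (g.appLE V W₀ hW₀V ≫ (pullback.fst g gS).appLE W₀ Ω inf_le_left).hom.toAlgebra
  have hpo := (isIso_pushoutSection_iff (IsPullback.of_hasPullback g gS) hV'V hW₀V (UY := Ω) rfl).1
    (isIso_pushoutSection_of_isAffineOpen (IsPullback.of_hasPullback g gS) hV'V hW₀V rfl hV hV' hW₀)
  haveI : IsScalarTower Γ(S, V) Γ(Y, W₀) Γ(pullback g gS, Ω) := .of_algebraMap_eq' rfl
  haveI : IsScalarTower Γ(S, V) Γ(S', V') Γ(pullback g gS, Ω) :=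
    .of_algebraMap_eq' (congrArg CommRingCat.Hom.hom hpo.w)
  haveI : Algebra.IsPushout Γ(S, V) Γ(Y, W₀) Γ(S', V') Γ(pullback g gS, Ω) :=
    CommRingCat.isPushout_iff_isPushout.1 hpo
  letI := ((pullback.fst b₀ gS).appLE P₀ Q₁ inf_le_left).hom.toAlgebra
  letI := ((pullback.snd b₀ gS).appLE V' Q₁ inf_le_right).hom.toAlgebra
  letI := (b₀.appLE V P₀ hP₀V ≫ (pullback.fst b₀ gS).appLE P₀ Q₁ inf_le_left).hom.toAlgebra
  have hpo' := (isIso_pushoutSection_iff (IsPullback.of_hasPullback b₀ gS) hV'V hP₀V (UY := Q₁) rfl).1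
    (isIso_pushoutSection_of_isAffineOpen (IsPullback.of_hasPullback b₀ gS) hV'V hP₀V rfl hV hV' hP₀)
  haveI : IsScalarTower Γ(S, V) Γ(SymProd.fibPow f d, P₀) Γ(pullback b₀ gS, Q₁) := .of_algebraMap_eq' rfl
  haveI : IsScalarTower Γ(S, V) Γ(S', V') Γ(pullback b₀ gS, Q₁) :=
    .of_algebraMap_eq' (congrArg CommRingCat.Hom.hom hpo'.w)
  haveI : Algebra.IsPushout Γ(S, V) Γ(SymProd.fibPow f d, P₀) Γ(S', V') Γ(pullback b₀ gS, Q₁) :=
    CommRingCat.isPushout_iff_isPushout.1 hpo'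
  let ι : Γ(Y, W₀) →ₗ[Γ(S, V)] Γ(SymProd.fibPow f d, P₀) :=
    { toFun := fun a => (q.app W₀).hom a
      map_add' := map_add _
      map_smul' := fun r a => by
        simp only [Algebra.smul_def, map_mul, RingHom.id_apply]
        congr 1
        show (q.app W₀).hom ((g.appLE V W₀ hW₀V).hom r) = (b₀.appLE V P₀ hP₀V).hom r
        rw [Scheme.Hom.app_eq_appLE, appLE_comp_apply]
        exact appLE_congr_app hq.over _ _ _ _ }
  have hιinj : Function.Injective ι := hq.isQuot.injective W₀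
  let e₁ := Algebra.IsPushout.equiv Γ(S, V) Γ(Y, W₀) Γ(S', V') Γ(pullback g gS, Ω)
  let e₂ := Algebra.IsPushout.equiv Γ(S, V) Γ(SymProd.fibPow f d, P₀) Γ(S', V') Γ(pullback b₀ gS, Q₁)
  have hM : ∀ z, (M.appLE Ω Q₁ hle).hom (e₁ z) = e₂ (ι.rTensor Γ(S', V') z) := fun z => by
    induction z using TensorProduct.induction_on with
    | zero => simp
    | add a b ha hb => simp only [map_add, ha, hb]
    | tmul a b =>
      rw [LinearMap.rTensor_tmul, Algebra.IsPushout.equiv_tmul, Algebra.IsPushout.equiv_tmul, map_mul]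
      congr 1
      · show (M.appLE Ω Q₁ hle).hom (((pullback.fst g gS).appLE W₀ Ω inf_le_left).hom a) =
          ((pullback.fst b₀ gS).appLE P₀ Q₁ inf_le_left).hom ((q.app W₀).hom a)
        rw [Scheme.Hom.app_eq_appLE, appLE_comp_apply, appLE_comp_apply]
        exact appLE_congr_app hM₁ _ _ _ _
      · show (M.appLE Ω Q₁ hle).hom (((pullback.snd g gS).appLE V' Ω inf_le_right).hom b) =
          ((pullback.snd b₀ gS).appLE V' Q₁ inf_le_right).hom b
        rw [appLE_comp_apply]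
        exact appLE_congr_app hM₂ _ _ _ _
  refine (injective_iff_map_eq_zero _).mpr fun x hx => ?_
  obtain ⟨z, rfl⟩ := e₁.surjective x
  rw [hM] at hx
  haveI : Module.Flat Γ(S, V) Γ(S', V') := hh
  have h0 : ι.rTensor Γ(S', V') z = 0 := e₂.injective (hx.trans (map_zero e₂).symm)
  rw [Module.Flat.rTensor_preserves_injective_linearMap ι hιinj (h0.trans (map_zero _).symm), map_zero]

/-- The base change of an action over the base. -/
noncomputable def pullbackAct {P : Scheme.{u}} (b : P ⟶ S) (gS : S' ⟶ S) {G : Type*} [Group G]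
    (act : G →* Aut P) (hb : ∀ σ, (act σ).hom ≫ b = b) : G →* Aut (pullback b gS) where
  toFun σ :=
    { hom := pullback.map _ _ _ _ (act σ).hom (𝟙 _) (𝟙 _) (by rw [hb, Category.comp_id]) (by simp)
      inv := pullback.map _ _ _ _ (act σ).inv (𝟙 _) (𝟙 _)
        (by rw [← hb σ, Iso.inv_hom_id_assoc, Category.comp_id, hb]) (by simp)
      hom_inv_id := by apply pullback.hom_ext <;> simp
      inv_hom_id := by apply pullback.hom_ext <;> simp }
  map_one' := by ext1; apply pullback.hom_ext <;> simp <;> rfl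
  map_mul' σ τ := by
    ext1
    apply pullback.hom_ext <;> simp [Aut.Aut_mul_def]

theorem pullbackAct_fst {P : Scheme.{u}} (b : P ⟶ S) {G : Type*} [Group G] (act : G →* Aut P)
    (hb : ∀ σ, (act σ).hom ≫ b = b) (σ : G) :
    (pullbackAct b gS act hb σ).hom ≫ pullback.fst b gS = pullback.fst b gS ≫ (act σ).hom :=
  pullback.lift_fst _ _ _

theorem pullbackAct_snd {P : Scheme.{u}} (b : P ⟶ S) {G : Type*} [Group G] (act : G →* Aut P)
    (hb : ∀ σ, (act σ).hom ≫ b = b) (σ : G) :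
    (pullbackAct b gS act hb σ).hom ≫ pullback.snd b gS = pullback.snd b gS :=
  (pullback.lift_snd _ _ _).trans (Category.comp_id _)

/-- Symmetric products commute with flat change of base, and with any change of base in characteristic
zero. -/
theorem isQuot_map_baseChange (hq : SymProd.IsSymProd f d q g) (gS : S' ⟶ S)
    (hcase : (Flat f ∧ ∀ (V : S.Opens) (V' : S'.Opens), IsAffineOpen V → IsAffineOpen V' →
        ∀ e : V' ≤ gS ⁻¹ᵁ V, (letI := (gS.appLE V V' e).hom.toAlgebra; Module.Flat Γ(S, V) Γ(S', V'))) ∨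
      ∀ n : ℕ, 0 < n → IsUnit ((n : ℕ) : Γ(S', ⊤)))
    (ρ : ULift.{u} (Equiv.Perm (Fin d)) →* Aut (pullback (WidePullback.base fun _ : Fin d => f) gS))
    (hρ₁ : ∀ σ, (ρ σ).hom ≫ pullback.fst (WidePullback.base fun _ : Fin d => f) gS =
      pullback.fst (WidePullback.base fun _ : Fin d => f) gS ≫ SymProd.permHom f d σ.down)
    (hρ₂ : ∀ σ, (ρ σ).hom ≫ pullback.snd (WidePullback.base fun _ : Fin d => f) gS =
      pullback.snd (WidePullback.base fun _ : Fin d => f) gS)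
    (M : pullback (WidePullback.base (fun _ : Fin d => f)) gS ⟶ pullback g gS)
    (hM₁ : M ≫ pullback.fst g gS = pullback.fst _ gS ≫ q) (hM₂ : M ≫ pullback.snd g gS = pullback.snd _ gS) :
    SGA1.IsQuot ρ M := by
  classical
  let b₀ := WidePullback.base (fun _ : Fin d => f)
  have hperm : ∀ σ, SymProd.permHom f d σ ≫ q = q := fun σ => by
    have := hq.isQuot.inv (ULift.up σ)
    rwa [SymProd.permActU_hom] at this
  have hinv : ∀ σ, (ρ σ).hom ≫ M = M := fun σ => by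
    apply pullback.hom_ext
    · rw [Category.assoc, hM₁, reassoc_of% (hρ₁ σ), hperm]
    · rw [Category.assoc, hM₂, hρ₂]
  let h := pullback.snd f gS
  let c := pullback.fst f gS
  let w : c ≫ f = h ≫ gS := pullback.condition
  haveI : IsClosedImmersion (pullback.lift c h w) := by
    rw [show pullback.lift c h w = 𝟙 _ from pullback.hom_ext (by simp [c]) (by simp [h])]
    infer_instance
  have hP := isPullback_fibPow (f := f) (b := gS) (powMap w d) (fun i => powMap_π w i) (powMap_base w)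
  let Φ := hP.isoPullback.hom
  have hΦ₁ : Φ ≫ pullback.fst b₀ gS = powMap w d := IsPullback.isoPullback_hom_fst _
  have hΦ₂ : Φ ≫ pullback.snd b₀ gS = WidePullback.base (fun _ : Fin d => h) :=
    IsPullback.isoPullback_hom_snd _
  have hcompat : ∀ σ : Equiv.Perm (Fin d), SymProd.permHom h d σ ≫ Φ = Φ ≫ (ρ (ULift.up σ)).hom := fun σ => by
    apply pullback.hom_ext
    · rw [Category.assoc, Category.assoc, hρ₁, hΦ₁, reassoc_of% hΦ₁, perm_powMap]
    · rw [Category.assoc, Category.assoc, hρ₂, hΦ₂, SymProd.permHom_base]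
  haveI := hq.isQuot.affine
  haveI : IsAffineHom M := by
    have hsq : IsPullback (pullback.fst b₀ gS) M q (pullback.fst g gS) := by
      refine IsPullback.of_bot ?_ hM₁.symm (IsPullback.of_hasPullback g gS)
      rw [hq.over, hM₂]
      exact IsPullback.of_hasPullback _ _
    exact MorphismProperty.of_isPullback hsq ‹IsAffineHom q›
  let P : (pullback g gS).Opens → Prop := fun W₀ => IsAffineOpen W₀ ∧
    ∃ W'' : (pullback g gS).Opens, IsAffineOpen W'' ∧ W₀ ≤ W'' ∧ Function.Injective (M.app W'').hom ∧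
      ∀ s, SGA1Quot21.IsInv ρ M hinv W'' s → s ∈ Set.range (M.app W'').hom
  have key : ∀ W₀, P W₀ → Function.Injective (M.app W₀).hom ∧
      ∀ s, SGA1Quot21.IsInv ρ M hinv W₀ s → s ∈ Set.range (M.app W₀).hom := by
    rintro W₀ ⟨hW₀, W'', hW'', hle, hI, hR⟩
    exact SGA1Quot21.sections_baseChange (ρ' := ρ)
      (IsPullback.of_horiz_isIso ⟨by simp⟩ : IsPullback (𝟙 _) M M (𝟙 _)) hinv hinv (fun σ => by simp)
      W'' hW'' hI hR W₀ hW₀ hle
  refine SGA1Quot21.isQuot_of_basis ρ M hinv P (fun O t ht => ?_) (fun W h => (key W h).1)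
    (fun W h => (key W h).2)
  obtain ⟨_, ⟨V, hV, rfl⟩, hyV, -⟩ := S.isBasis_affineOpens.exists_subset_of_mem_open
    (Set.mem_univ (g.base ((pullback.fst g gS).base t))) isOpen_univ
  obtain ⟨_, ⟨W₀, hW₀, rfl⟩, hy, hW₀V⟩ := Y.isBasis_affineOpens.exists_subset_of_mem_open
    (show (pullback.fst g gS).base t ∈ g ⁻¹ᵁ V from hyV) (g ⁻¹ᵁ V).2
  obtain ⟨_, ⟨V', hV', rfl⟩, hs', hV'V⟩ := S'.isBasis_affineOpens.exists_subset_of_mem_open
    (show (pullback.snd g gS).base t ∈ gS ⁻¹ᵁ V by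
      show (pullback.snd g gS ≫ gS).base t ∈ V
      rw [← pullback.condition]; exact hyV) (gS ⁻¹ᵁ V).2
  haveI : IsAffine (Scheme.Opens.toScheme (X := S) V) := hV
  haveI : IsAffine (Scheme.Opens.toScheme (X := S') V') := hV'
  haveI : IsAffine (Scheme.Opens.toScheme (X := Y) W₀) := hW₀
  let Ω := pullback.fst g gS ⁻¹ᵁ W₀ ⊓ pullback.snd g gS ⁻¹ᵁ V'
  have hΩ : IsAffineOpen Ω :=
    .of_isIso (Scheme.Hom.isPullback_resLE (IsPullback.of_hasPullback g gS) (US := V) (UT := V') (UX := W₀)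
      hV'V hW₀V (UY := Ω) rfl).isoPullback.hom
  obtain ⟨_, ⟨W₁, hW₁, rfl⟩, htW₁, hle⟩ := (pullback g gS).isBasis_affineOpens.exists_subset_of_mem_open
    (show t ∈ ((O ⊓ Ω : (pullback g gS).Opens) : Set ↥(pullback g gS)) from ⟨ht, hy, hs'⟩) (O ⊓ Ω).2
  have eM : pullback.fst b₀ gS ⁻¹ᵁ (q ⁻¹ᵁ W₀) ⊓ pullback.snd b₀ gS ⁻¹ᵁ V' = M ⁻¹ᵁ Ω := by
    rw [Scheme.Hom.preimage_inf M, ← Scheme.Hom.comp_preimage M, ← Scheme.Hom.comp_preimage M, hM₁, hM₂,
      Scheme.Hom.comp_preimage]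
  refine ⟨W₁, ⟨hW₁, Ω, hΩ, fun z hz => (hle hz).2, ?_, fun s hs => ?_⟩, htW₁, fun z hz => (hle hz).1⟩
  · have hi : Function.Injective (M.appLE Ω _ eM.le).hom := by
      rcases hcase with ⟨hf, hfl⟩ | hchar
      · exact injective_map_appLE_flat hq hW₀ hV hW₀V hV' hV'V (hfl V V' hV hV' hV'V) M hM₁ hM₂ eM.le
      · exact injective_map_appLE hq hW₀ hV hW₀V hV' hV'V hchar M hM₁ hM₂ eM.le
    have key2 : ∀ (Q : (pullback b₀ gS).Opens) (e' : Q = M ⁻¹ᵁ Ω),
        Function.Injective (M.appLE Ω Q e'.le).hom → Function.Injective (M.app Ω).hom := by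
      rintro _ rfl hh
      rwa [Scheme.Hom.appLE_eq_app] at hh
    exact key2 _ eM hi
  · let Q := tgt w q W₀ V'
    have eQ : Q = Φ ⁻¹ᵁ (M ⁻¹ᵁ Ω) := by
      rw [← eM, Scheme.Hom.preimage_inf Φ, ← Scheme.Hom.comp_preimage Φ, ← Scheme.Hom.comp_preimage Φ,
        hΦ₁, hΦ₂]
    let rv := (Φ.appLE (M ⁻¹ᵁ Ω) Q eQ.le).hom s
    have hrv : ∀ σ, pact h d _ σ (tgt_perm w hq W₀ V' σ) rv = rv := fun σ => by
      simp only [rv, pact]
      rw [appLE_comp_apply]
      conv_rhs => rw [← hs (ULift.up σ)]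
      simp only [SGA1Quot21.act]
      rw [appLE_comp_apply]
      exact appLE_congr_app (hcompat σ) _ _ _ _
    have hflat : Flat h ∨ ∀ n : ℕ, 0 < n → IsUnit ((n : ℕ) : Γ(S', ⊤)) := by
      rcases hcase with ⟨hf, -⟩ | hchar
      · exact Or.inl inferInstance
      · exact Or.inr hchar
    have hmem := mem_mulSpan_of_invariant w hq hW₀ hV hW₀V hV' hV'V hflat rv hrv
    have eQ' : Q ≤ (Φ ≫ M) ⁻¹ᵁ Ω := eQ.le
    have hrange : rv ∈ Set.range ((Φ ≫ M).appLE Ω Q eQ').hom := by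
      refine (AddSubgroup.closure_le (K := ((Φ ≫ M).appLE Ω Q eQ').hom.range.toAddSubgroup)).mpr ?_ hmem
      rintro _ ⟨a, b, -, rfl⟩
      exact Subring.mul_mem _
        (mem_range_appLE_lift (Φ ≫ M) (pullback.snd g gS) _ (by rw [Category.assoc, hM₂, hΦ₂]) inf_le_right _ _ b)
        (mem_range_appLE_lift (Φ ≫ M) (pullback.fst g gS) _
          (by rw [Category.assoc, hM₁, reassoc_of% hΦ₁]) inf_le_left _ _ a)
    obtain ⟨a, ha⟩ := hrange
    refine ⟨a, ?_⟩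
    have key3 : ∀ (Q : (SymProd.fibPow h d).Opens) (e' : Q = Φ ⁻¹ᵁ (M ⁻¹ᵁ Ω)),
        Function.Injective (Φ.appLE (M ⁻¹ᵁ Ω) Q e'.le).hom := by
      rintro _ rfl
      rw [Scheme.Hom.appLE_eq_app]
      exact (ConcreteCategory.bijective_of_isIso (Φ.app (M ⁻¹ᵁ Ω))).1
    refine key3 Q eQ ?_
    show _ = rv
    rw [← ha, Scheme.Hom.app_eq_appLE, appLE_comp_apply]

/-- A quotient by a normal factor followed by a quotient by the complementary factor is a quotient. -/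
theorem isQuot_comp {X₀ X₁ Y₀ : Scheme.{u}} {G G₁ G₂ : Type u} [Group G] [Group G₁] [Group G₂]
    {ρ : G →* Aut X₀} {ρ₁ : G₁ →* Aut X₁} {i₂ : G₂ →* G} {π : G → G₁} (hπ : Function.Surjective π)
    {p₁ : X₀ ⟶ X₁} {p₂ : X₁ ⟶ Y₀} (h₁ : SGA1.IsQuot (ρ.comp i₂) p₁) (h₂ : SGA1.IsQuot ρ₁ p₂)
    (hc : ∀ σ, (ρ σ).hom ≫ p₁ = p₁ ≫ (ρ₁ (π σ)).hom) : SGA1.IsQuot ρ (p₁ ≫ p₂) := by
  haveI := h₁.affine
  haveI := h₂.affine
  have hinv : ∀ σ, (ρ σ).hom ≫ p₁ ≫ p₂ = p₁ ≫ p₂ := fun σ => by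
    rw [← Category.assoc, hc, Category.assoc, h₂.inv]
  refine ⟨inferInstance, hinv, fun U => ?_, fun U s => ⟨?_, fun hs => ?_⟩⟩
  · rw [Scheme.Hom.comp_app]
    exact (h₁.injective _).comp (h₂.injective U)
  · rintro ⟨b, rfl⟩ σ
    exact SGA1Quot21.isInv_app ρ (p₁ ≫ p₂) hinv U b σ
  · obtain ⟨t, rfl⟩ := (h₁.range_iff (p₂ ⁻¹ᵁ U) s).mpr fun τ => hs (i₂ τ)
    obtain ⟨b, rfl⟩ := (h₂.range_iff U t).mpr fun g₁ => by
      obtain ⟨σ, rfl⟩ := hπ g₁
      refine h₁.injective _ ?_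
      refine Eq.trans ?_ (hs σ)
      rw [Scheme.Hom.app_eq_appLE, appLE_comp_apply]
      exact (appLE_congr_app (hc σ).symm _ _ _ _).trans
        (appLE_comp_apply (ρ σ).hom p₁ (p₂ ⁻¹ᵁ U) (p₁ ⁻¹ᵁ (p₂ ⁻¹ᵁ U)) (p₁ ⁻¹ᵁ (p₂ ⁻¹ᵁ U)) le_rfl _ t).symm
    exact ⟨b, by rw [Scheme.Hom.comp_app, CommRingCat.comp_apply]; rfl⟩

end GrothLib.SymCmp4
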