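import Groth.Agent.Lib.SymCmp4.Local
import Groth.Agent.Lib.SymCmp4.Closed

/-!
Invariant sections on the preimage of an affine of the symmetric product after a change of base, flat or
in characteristic zero, are spanned by products of pulled back sections.
-/

universe u

open CategoryTheory CategoryTheory.Limits AlgebraicGeometry TopologicalSpace

set_option maxHeartbeats 800000

namespace GrothLib.SymCmp4

open SymAF26

variable {X S S' Z Y : Scheme.{u}} {f : X ⟶ S} {h : Z ⟶ S'} {c : Z ⟶ X} {gS : S' ⟶ S}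
  (w : c ≫ f = h ≫ gS) {d : ℕ} [IsClosedImmersion (pullback.lift c h w)]
  {q : SymProd.fibPow f d ⟶ Y} {g : Y ⟶ S}

/-- The preimage in the new fibre power of opens of the symmetric product and of the new base. -/
noncomputable abbrev tgt (q : SymProd.fibPow f d ⟶ Y) (W₀ : Y.Opens) (V' : S'.Opens) :
    (SymProd.fibPow h d).Opens :=
  (powMap w d) ⁻¹ᵁ (q ⁻¹ᵁ W₀) ⊓ (WidePullback.base (fun _ : Fin d => h)) ⁻¹ᵁ V'

omit [IsClosedImmersion (pullback.lift c h w)] in
theorem tgt_perm (hq : SymProd.IsSymProd f d q g) (W₀ : Y.Opens) (V' : S'.Opens)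
    (σ : Equiv.Perm (Fin d)) : tgt w q W₀ V' ≤ (SymProd.permHom h d σ) ⁻¹ᵁ tgt w q W₀ V' := by
  have hperm : SymProd.permHom f d σ ≫ q = q := by
    have := hq.isQuot.inv (ULift.up σ)
    rwa [SymProd.permActU_hom] at this
  rw [Scheme.Hom.preimage_inf, ← Scheme.Hom.comp_preimage, ← Scheme.Hom.comp_preimage,
    ← Scheme.Hom.comp_preimage, SymProd.permHom_base, perm_powMap, Category.assoc,
    hperm, Scheme.Hom.comp_preimage]

variable (hq : SymProd.IsSymProd f d q g) {W₀ : Y.Opens} (hW₀ : IsAffineOpen W₀)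
  {V : S.Opens} (hV : IsAffineOpen V) (hW₀V : W₀ ≤ g ⁻¹ᵁ V) {V' : S'.Opens} (hV' : IsAffineOpen V')
  (hV'V : V' ≤ gS ⁻¹ᵁ V)

include hq hW₀ hV hW₀V hV' hV'V

/-- These preimages are affine, with rings spanned by products. -/
theorem tgt_affine : IsAffineOpen (tgt w q W₀ V') ∧ ∀ v, v ∈ mulSpan
    ((powMap w d).appLE (q ⁻¹ᵁ W₀) (tgt w q W₀ V') inf_le_left).hom
    ((WidePullback.base (fun _ : Fin d => h)).appLE V' (tgt w q W₀ V') inf_le_right).hom
    (fun _ => True) := by
  haveI := isClosedImmersion_powMap (f := f) w (d := d)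
  haveI := hq.isQuot.affine
  refine gen_affine (powMap_base w) (hW₀.preimage q) hV hV' (fun x hx => ?_) hV'V
  show (WidePullback.base (fun _ : Fin d => f)).base x ∈ V
  rw [← base_eq d hq]
  exact hW₀V hx

/-- The invariant sections are spanned by pulled back sections. -/
theorem mem_mulSpan_of_invariant (hh : Flat h ∨ ∀ n : ℕ, 0 < n → IsUnit ((n : ℕ) : Γ(S', ⊤)))
    (v : Γ(SymProd.fibPow h d, tgt w q W₀ V'))
    (hv : ∀ σ, pact h d (tgt w q W₀ V') σ (tgt_perm w hq W₀ V' σ) v = v) :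
    v ∈ mulSpan ((powMap w d ≫ q).appLE W₀ (tgt w q W₀ V') inf_le_left).hom
      ((WidePullback.base (fun _ : Fin d => h)).appLE V' (tgt w q W₀ V') inf_le_right).hom
      (fun _ => True) := by
  classical
  let αQ := ((powMap w d).appLE (q ⁻¹ᵁ W₀) (tgt w q W₀ V') inf_le_left).hom
  let β := ((WidePullback.base (fun _ : Fin d => h)).appLE V' (tgt w q W₀ V') inf_le_right).hom
  have hα : ((powMap w d ≫ q).appLE W₀ (tgt w q W₀ V') inf_le_left).hom = αQ.comp (q.app W₀).hom :=
    RingHom.ext fun a => by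
      rw [RingHom.comp_apply, Scheme.Hom.app_eq_appLE]
      exact (appLE_comp_apply _ q W₀ (q ⁻¹ᵁ W₀) _ le_rfl inf_le_left a).symm
  rw [hα]
  obtain ⟨hQ, hspan⟩ := tgt_affine w hq hW₀ hV hW₀V hV' hV'V
  rcases hh with hh | hh
  · let I : Ideal Γ(Y, W₀) :=
      { carrier := {a | αQ ((q.app W₀).hom a) * v ∈ mulSpan (αQ.comp (q.app W₀).hom) β (fun _ => True)}
        add_mem' := fun {a b} ha hb => by
          simp only [Set.mem_setOf_eq, map_add, add_mul] at *
          exact add_mem ha hb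
        zero_mem' := by simp only [Set.mem_setOf_eq, map_zero, zero_mul]; exact zero_mem _
        smul_mem' := fun a b hb => by
          simp only [Set.mem_setOf_eq, smul_eq_mul, map_mul, mul_assoc] at *
          exact mul_mem_mulSpan (α := αQ.comp (q.app W₀).hom) (fun _ _ _ _ => trivial) trivial hb }
    have hI : (1 : Γ(Y, W₀)) ∈ I := by
      have hle : W₀ ≤ ⨆ a : (I : Set Γ(Y, W₀)), Y.basicOpen a.1 := fun y hy => by
        obtain ⟨z, rfl⟩ := SGA1Quot21.surjective hq.isQuot y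
        obtain ⟨hc, -, -, hloc⟩ := exists_local w hq hW₀ hV hW₀V hV' hV'V (Q := tgt w q W₀ V') rfl
          inf_le_left inf_le_right (tgt_perm w hq W₀ V') z hy
        obtain ⟨a, hza, ha⟩ := hloc hQ hh v hv
        exact Opens.mem_iSup.mpr ⟨⟨a, ha⟩, hza⟩
      rw [hW₀.self_le_iSup_basicOpen_iff, Ideal.span_eq] at hle
      rw [hle]; trivial
    have h1 : αQ ((q.app W₀).hom 1) * v ∈ mulSpan (αQ.comp (q.app W₀).hom) β (fun _ => True) := hI
    rwa [map_one, map_one, one_mul] at h1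
  · have hperm : ∀ σ, SymProd.permHom f d σ ≫ q = q := fun σ => by
      have := hq.isQuot.inv (ULift.up σ)
      rwa [SymProd.permActU_hom] at this
    have hP₀σ : ∀ σ, q ⁻¹ᵁ W₀ ≤ (SymProd.permHom f d σ) ⁻¹ᵁ (q ⁻¹ᵁ W₀) := fun σ => by
      rw [← Scheme.Hom.comp_preimage, hperm]
    let n := Fintype.card (Equiv.Perm (Fin d))
    obtain ⟨b, hb⟩ : ∃ b, (n : Γ(S', V')) * b = 1 := isUnit_iff_exists_inv.mp (by
      have := (hh n Fintype.card_pos).map (S'.presheaf.map (homOfLE (le_top : V' ≤ ⊤)).op).hom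
      rwa [map_natCast] at this)
    let Tr : Γ(SymProd.fibPow h d, tgt w q W₀ V') →+ Γ(SymProd.fibPow h d, tgt w q W₀ V') :=
      (AddMonoidHom.mulLeft (β b)).comp
        (∑ σ, (pact h d (tgt w q W₀ V') σ (tgt_perm w hq W₀ V' σ)).toAddMonoidHom)
    have hTr : ∀ t, Tr t = β b * ∑ σ, pact h d (tgt w q W₀ V') σ (tgt_perm w hq W₀ V' σ) t := fun t => by
      simp [Tr, AddMonoidHom.finsetSum_apply]
    have e : Tr v = v := by
      rw [hTr]
      simp only [hv, Finset.sum_const, Finset.card_univ, nsmul_eq_mul]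
      rw [← mul_assoc, ← map_natCast β, ← map_mul, mul_comm b, hb, map_one, one_mul]
    rw [← e]
    refine map_mem_mulSpan Tr (fun a t _ => ?_) (hspan v)
    have hinv : ∑ σ, pact f d (q ⁻¹ᵁ W₀) σ (hP₀σ σ) a ∈ Set.range (q.app W₀).hom := by
      rw [hq.isQuot.range_iff]
      intro σ
      refine (appLE_congr_app (SymProd.permActU_hom f d σ) _ _ _ _).trans ?_
      show pact f d (q ⁻¹ᵁ W₀) σ.down (hP₀σ σ.down) _ = _
      rw [map_sum]
      refine Fintype.sum_equiv (Equiv.mulRight σ.down) _ _ fun τ => ?_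
      exact (pact_mul (hP₀σ τ) (hP₀σ σ.down) (hP₀σ _) a).symm
    obtain ⟨a', ha'⟩ := hinv
    refine AddSubgroup.subset_closure ⟨a', b * t, trivial, ?_⟩
    rw [hTr, RingHom.comp_apply, ha', map_sum αQ, map_mul β, Finset.mul_sum, Finset.mul_sum]
    refine Finset.sum_congr rfl fun σ _ => ?_
    rw [map_mul, pact_base inf_le_right (tgt_perm w hq W₀ V' σ),
      pact_powMap w inf_le_left (hP₀σ σ) (tgt_perm w hq W₀ V' σ), mul_assoc]

end GrothLib.SymCmp4
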